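import Groth.Agent.AlgStBasic.RepStack
import Groth.Agent.StkBase.Descent
import Groth.Agent.StkGerb.Band

/-!
# The sheaves of morphisms out of a section

For a section `x` of a stack over a sheaf `B`: the sheaf of automorphisms of `x` and, for an object
`ξ`, the sheaf of morphisms from `x` to `ξ`.
-/

set_option autoImplicit false
set_option backward.isDefEq.respectTransparency false
set_option backward.isDefEq.respectTransparency.types false

universe u

open CategoryTheory CategoryTheory.Limits AlgebraicGeometry Opposite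

namespace Groth.StkGerb.Section

open Groth.StkBase

/-- A stack over a sheaf with a section. -/
structure SecData (S : Scheme.{u}) (B : AlgSp.Sp S) where
  /-- the stack -/
  X : AlgSt.Cat S
  isStack : Stk.IsStack (AlgSp.J S) X
  /-- the map to the sheaf -/
  π : X ⥤ᵇ AlgSt.ofSp B
  /-- the section -/
  x : AlgSt.ofSp B ⥤ᵇ X
  ex : BasedFunctor.comp x π ≅ BasedFunctor.id (AlgSt.ofSp B)

variable {S : Scheme.{u}} {B : AlgSp.Sp S} (D : SecData S B)

theorem SecData.fib : FibCat.IsFibGrpd D.X.p := D.isStack.1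

/-- An element of the sheaf, as an object. -/
abbrev el (T : Over S) (v : B.obj.obj (op T)) : (AlgSt.ofSp B).obj := ⟨T, v⟩

variable {D}

/-- The morphism of elements between equal elements over one scheme. -/
def castEl {T : Over S} {v v' : B.obj.obj (op T)} (h : v = v') : el T v' ⟶ el T v :=
  eltHom (𝟙 T) ((map_op_id B.obj (𝟙 T) rfl v).trans h)

@[simp] theorem castEl_hom {T : Over S} {v v' : B.obj.obj (op T)} (h : v = v') :
    (castEl h).hom = 𝟙 T := rfl

theorem castEl_self {T : Over S} {v : B.obj.obj (op T)} (h : v = v) : castEl h = 𝟙 (el T v) :=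
  Stk.EltObj.hom_ext rfl

/-- The morphism of elements along a morphism of schemes. -/
def hat {T' T : Over S} (l : T' ⟶ T) (v : B.obj.obj (op T)) : el T' (B.obj.map l.op v) ⟶ el T v :=
  eltHom l rfl

@[simp] theorem hat_hom {T' T : Over S} (l : T' ⟶ T) (v : B.obj.obj (op T)) : (hat l v).hom = l := rfl

theorem xmap_eq {a b c : (AlgSt.ofSp B).obj} (f : a ⟶ b) (g : b ⟶ c) (h : a ⟶ c)
    (e : f.hom ≫ g.hom = h.hom) : D.x.map f ≫ D.x.map g = D.x.map h :=
  (D.x.toFunctor.map_comp f g).symm.trans (congrArg D.x.map (Stk.EltObj.hom_ext e))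

theorem xmap_self {a : (AlgSt.ofSp B).obj} (f : a ⟶ a) (e : f.hom = 𝟙 a.base) :
    D.x.map f = 𝟙 (D.x.obj a) :=
  (congrArg D.x.map (Stk.EltObj.hom_ext e : f = 𝟙 a)).trans (D.x.toFunctor.map_id a)

theorem sec_x (a : (AlgSt.ofSp B).obj) :
    secOf D.π (D.x.obj a) = B.obj.map (eqToHom (D.x.w_obj a)).op a.sec := by
  have h₁ : secOf (BasedFunctor.comp D.x D.π) a = secOf (BasedFunctor.id (AlgSt.ofSp B)) a :=
    secOf_eq_of_iso D.ex a
  have h₂ : secOf (BasedFunctor.id (AlgSt.ofSp B)) a = a.sec := map_op_id B.obj _ rfl _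
  rw [← h₂, ← h₁]
  show B.obj.map _ _ = B.obj.map _ (B.obj.map _ _)
  rw [map_op_comp, eqToHom_trans]
  rfl

/-- The morphism of schemes under a morphism out of the section. -/
def kOf {a : (AlgSt.ofSp B).obj} {ξ : D.X.obj} (χ : D.x.obj a ⟶ ξ) : a.base ⟶ D.X.p.obj ξ :=
  eqToHom (D.x.w_obj a).symm ≫ D.X.p.map χ

theorem map_sec_kOf {a : (AlgSt.ofSp B).obj} {ξ : D.X.obj} (χ : D.x.obj a ⟶ ξ) :
    B.obj.map (kOf χ).op (secOf D.π ξ) = a.sec := by
  rw [kOf, ← map_op_comp, secOf_map D.π χ, sec_x, map_op_comp]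
  exact map_op_id B.obj _ (by simp) _

theorem kOf_comp {a' a : (AlgSt.ofSp B).obj} (f : a' ⟶ a) {ξ : D.X.obj} (χ : D.x.obj a ⟶ ξ) :
    kOf (D.x.map f ≫ χ) = f.hom ≫ kOf χ := by
  rw [kOf, kOf, Functor.map_comp, map_map D.x f]
  simp

theorem kOf_comp_right {a : (AlgSt.ofSp B).obj} {ξ ξ' : D.X.obj} (χ : D.x.obj a ⟶ ξ) (f : ξ ⟶ ξ') :
    kOf (χ ≫ f) = kOf χ ≫ D.X.p.map f := by
  rw [kOf, kOf, Functor.map_comp, Category.assoc]

theorem kOf_vert_comp {a : (AlgSt.ofSp B).obj} {ξ : D.X.obj} (α : D.x.obj a ⟶ D.x.obj a)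
    (hα : IsVert D.X.p α) (χ : D.x.obj a ⟶ ξ) : kOf (α ≫ χ) = kOf χ := by
  rw [kOf, kOf, Functor.map_comp, hα.map_eq, eqToHom_refl, Category.id_comp]

variable (D)

/-- An element of the sheaf of automorphisms of the section. -/
structure GElt (T : Over S) : Type (u + 1) where
  /-- the element of the base sheaf -/
  v : B.obj.obj (op T)
  /-- the automorphism -/
  α : Gerb.AutO (D.x.obj (el T v))

variable {D}

/-- The automorphism, moved to an equal element. -/
noncomputable def GElt.at {T : Over S} (p : GElt D T) (v : B.obj.obj (op T)) (h : p.v = v) :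
    Gerb.AutO (D.x.obj (el T v)) :=
  Groth.StkGerb.Band.res D.fib (D.x.map (castEl h)) p.α

theorem GElt.at_self {T : Over S} (p : GElt D T) (h : p.v = p.v) : p.at p.v h = p.α := by
  rw [GElt.at, castEl_self]
  exact (congrArg (fun m => Groth.StkGerb.Band.res D.fib m p.α) (D.x.toFunctor.map_id _)).trans
    (Groth.StkGerb.Band.res_id D.fib p.α)

theorem GElt.ext' {T : Over S} {p q : GElt D T} (h : p.v = q.v) (hα : p.at q.v h = q.α) : p = q := by
  obtain ⟨v, α⟩ := p
  obtain ⟨v', α'⟩ := q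
  dsimp at h
  subst h
  have : α = α' := (GElt.at_self (⟨v, α⟩ : GElt D T) rfl).symm.trans hα
  rw [this]

theorem res_xmap {a b c : (AlgSt.ofSp B).obj} (f : a ⟶ b) (g : b ⟶ c) (h : a ⟶ c)
    (e : f.hom ≫ g.hom = h.hom) (α : Gerb.AutO (D.x.obj c)) :
    Groth.StkGerb.Band.res D.fib (D.x.map f) (Groth.StkGerb.Band.res D.fib (D.x.map g) α) =
      Groth.StkGerb.Band.res D.fib (D.x.map h) α := by
  rw [← Groth.StkGerb.Band.res_comp, xmap_eq f g h e]

variable (D)

/-- The presheaf of automorphisms of the section. -/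
noncomputable def autPsh : AlgSp.PSp S where
  obj T := GElt D T.unop
  map {T T'} l := TypeCat.ofHom fun p =>
    ⟨B.obj.map l p.v, Groth.StkGerb.Band.res D.fib (D.x.map (hat l.unop p.v)) p.α⟩
  map_id T := by
    ext p
    refine GElt.ext' (map_op_id B.obj (𝟙 T.unop) rfl p.v) ?_
    refine (res_xmap (castEl (map_op_id B.obj (𝟙 T.unop) rfl p.v)) (hat (𝟙 T.unop) p.v) (𝟙 _)
      (Category.id_comp _) p.α).trans ?_
    exact (congrArg (fun m => Groth.StkGerb.Band.res D.fib m p.α) (D.x.toFunctor.map_id _)).trans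
      (Groth.StkGerb.Band.res_id D.fib p.α)
  map_comp {T T' T''} l l' := by
    ext p
    refine GElt.ext' (Functor.map_comp_apply B.obj l l' p.v) ?_
    let h := Functor.map_comp_apply B.obj l l' p.v
    refine (res_xmap (castEl h) (hat (l ≫ l').unop p.v)
      (eltHom (P := B.obj) (a := el T''.unop (B.obj.map l' (B.obj.map l p.v))) (b := el T.unop p.v)
        (l'.unop ≫ l.unop) h)
      (Category.id_comp _) p.α).trans ?_
    exact (res_xmap (hat l'.unop (B.obj.map l p.v)) (hat l.unop p.v) _ rfl p.α).symm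

/-- An element of the sheaf of morphisms from the section to `ξ`. -/
structure PElt (ξ : D.X.obj) (T : Over S) : Type (u + 1) where
  /-- the element of the base sheaf -/
  v : B.obj.obj (op T)
  /-- the morphism -/
  χ : D.x.obj (el T v) ⟶ ξ

variable {D}

/-- The morphism, moved to an equal element. -/
def PElt.at {ξ : D.X.obj} {T : Over S} (p : PElt D ξ T) (v : B.obj.obj (op T)) (h : p.v = v) :
    D.x.obj (el T v) ⟶ ξ :=
  D.x.map (castEl h) ≫ p.χ

theorem PElt.at_self {ξ : D.X.obj} {T : Over S} (p : PElt D ξ T) (h : p.v = p.v) : p.at p.v h = p.χ := by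
  rw [PElt.at, xmap_self (castEl h) rfl, Category.id_comp]

theorem PElt.ext' {ξ : D.X.obj} {T : Over S} {p q : PElt D ξ T} (h : p.v = q.v)
    (hχ : p.at q.v h = q.χ) : p = q := by
  obtain ⟨v, χ⟩ := p
  obtain ⟨v', χ'⟩ := q
  dsimp at h
  subst h
  have : χ = χ' := (PElt.at_self (⟨v, χ⟩ : PElt D ξ T) rfl).symm.trans hχ
  rw [this]

variable (D)

/-- The presheaf of morphisms from the section to `ξ`. -/
def homPsh (ξ : D.X.obj) : AlgSp.PSp S where
  obj T := PElt D ξ T.unop
  map {T T'} l := TypeCat.ofHom fun p => ⟨B.obj.map l p.v, D.x.map (hat l.unop p.v) ≫ p.χ⟩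
  map_id T := by
    ext p
    refine PElt.ext' (map_op_id B.obj (𝟙 T.unop) rfl p.v) ?_
    refine (Category.assoc _ _ _).symm.trans ?_
    exact ((congrArg (· ≫ p.χ) ((xmap_eq (castEl (map_op_id B.obj (𝟙 T.unop) rfl p.v))
      (hat (𝟙 T.unop) p.v) (𝟙 _) (Category.id_comp _)).trans (D.x.toFunctor.map_id _)))).trans
      (Category.id_comp _)
  map_comp {T T' T''} l l' := by
    ext p
    refine PElt.ext' (Functor.map_comp_apply B.obj l l' p.v) ?_
    let h := Functor.map_comp_apply B.obj l l' p.v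
    refine ((Category.assoc _ _ _).symm.trans ?_).trans (Category.assoc _ _ _)
    refine congrArg (· ≫ p.χ) ?_
    refine (xmap_eq (castEl h) (hat (l ≫ l').unop p.v)
      (eltHom (P := B.obj) (a := el T''.unop (B.obj.map l' (B.obj.map l p.v))) (b := el T.unop p.v)
        (l'.unop ≫ l.unop) h) (Category.id_comp _)).trans ?_
    exact (xmap_eq (hat l'.unop (B.obj.map l p.v)) (hat l.unop p.v) _ rfl).symm

theorem res_of_map_eq {T' T : Over S} (k : T' ⟶ T) (p : GElt D T) (q : GElt D T')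
    (hk : (autPsh D).map k.op p = q) (g : el T' q.v ⟶ el T p.v) (hg : g.hom = k) :
    Groth.StkGerb.Band.res D.fib (D.x.map g) p.α = q.α := by
  subst hk
  rw [show g = hat k p.v from Stk.EltObj.hom_ext hg]
  rfl

/-- The automorphisms of the section are its self-intersection. -/
theorem exists_equiv_autPsh :
    ∃ E : Stk.ofPsh (autPsh D) ⥤ᵇ FibCat.fp D.x D.x, FibCat.IsEquivOver E ∧
      ∀ a, ((FibCat.fpFst D.x D.x).obj (E.obj a)) = el a.base a.sec.v := by
  have hvert : ∀ {a : (AlgSt.ofSp B).obj} (α : Gerb.AutO (D.x.obj a)),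
      ∃ i : D.x.obj a ≅ D.x.obj a, IsVert D.X.p i.hom ∧ i.hom = α.hom.1 := fun {a} α => by
    have hv := Groth.StkGerb.isVert_autO α
    have := hv.isIso D.fib
    exact ⟨asIso α.hom.1, hv, rfl⟩
  choose iso hiso hisoeq using @hvert
  have hw : ∀ {a b : (Stk.ofPsh (autPsh D)).obj} (f : a ⟶ b)
      (g : el a.base a.sec.v ⟶ el b.base b.sec.v), g.hom = f.hom →
      D.x.map g ≫ (iso b.sec.α).hom = (iso a.sec.α).hom ≫ D.x.map g := fun {a b} f g hg => by
    rw [hisoeq, hisoeq]
    have h : Groth.StkGerb.Band.res D.fib (D.x.map g) b.sec.α = a.sec.α := by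
      exact res_of_map_eq D f.hom b.sec a.sec f.map_sec g hg
    exact ((congrArg (fun γ => γ.hom.1 ≫ D.x.map g) h.symm).trans
      (Groth.StkGerb.Band.res_spec D.fib (D.x.map g) b.sec.α)).symm
  let F : ∀ {a b : (Stk.ofPsh (autPsh D)).obj} (_ : a ⟶ b), el a.base a.sec.v ⟶ el b.base b.sec.v :=
    fun {a b} f => eltHom f.hom (congrArg GElt.v f.map_sec)
  let E : Stk.ofPsh (autPsh D) ⥤ᵇ FibCat.fp D.x D.x :=
    { toFunctor :=
        { obj := fun a => fpMk (F := D.x) (G := D.x) (el a.base a.sec.v) (el a.base a.sec.v)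
            (iso a.sec.α) (hiso a.sec.α)
          map := fun {a b} f => fpHom (F f) (F f) (hw f (F f) rfl)
          map_id := fun a => fp_hom_ext (Stk.EltObj.hom_ext rfl) (Stk.EltObj.hom_ext rfl)
          map_comp := fun f g => fp_hom_ext (Stk.EltObj.hom_ext rfl) (Stk.EltObj.hom_ext rfl) }
      w := rfl }
  refine ⟨E, isEquivOver_of_fullyFaithful E ⟨fun {a b} m => ?_⟩ ⟨fun {a b} f g h => ?_⟩ (fun z => ?_),
    fun a => rfl⟩
  · let f₁ : el a.base a.sec.v ⟶ el b.base b.sec.v := m.hom.fst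
    let f₂ : el a.base a.sec.v ⟶ el b.base b.sec.v := m.hom.snd
    let k : a.base ⟶ b.base := f₁.hom
    have hs : f₂.hom = k := (fp_map_snd m).trans (by
      show eqToHom _ ≫ k ≫ eqToHom _ = k
      simp)
    have e₁₂ : f₂ = f₁ := Stk.EltObj.hom_ext hs
    have hv : B.obj.map k.op b.sec.v = a.sec.v := f₁.map_sec
    have w : D.x.map f₁ ≫ (iso b.sec.α).hom = (iso a.sec.α).hom ≫ D.x.map f₁ := by
      have := m.hom.w
      change D.x.map f₁ ≫ (iso b.sec.α).hom = (iso a.sec.α).hom ≫ D.x.map f₂ at this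
      rwa [e₁₂] at this
    have hsec : (autPsh D).map k.op b.sec = a.sec := by
      refine GElt.ext' hv ?_
      refine (res_xmap (castEl hv) (hat k b.sec.v) f₁ (Category.id_comp _) b.sec.α).trans ?_
      refine Groth.StkGerb.Band.res_eq D.fib _ _ _ ?_
      rw [← hisoeq, ← hisoeq]
      exact w.symm
    exact ⟨eltHom k hsec, fp_hom_ext (Stk.EltObj.hom_ext rfl) (Stk.EltObj.hom_ext hs.symm)⟩
  · exact Stk.EltObj.hom_ext (congrArg (fun m => m.hom.fst.hom) h)
  · let a := z.obj.fst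
    let b := z.obj.snd
    have hb : b.base = a.base := fp_p_snd z
    have hi : IsVert D.X.p z.obj.iso.hom := fp_isVert z
    have hk : kOf z.obj.iso.hom = eqToHom hb.symm ≫ eqToHom (D.x.w_obj b).symm := by
      rw [kOf, hi.map_eq, eqToHom_trans, eqToHom_trans]
    have hs : B.obj.map (eqToHom hb.symm).op b.sec = a.sec := by
      have h := map_sec_kOf z.obj.iso.hom
      rw [hk, ← map_op_comp, sec_x] at h
      have e := map_op_comp B.obj (eqToHom (D.x.w_obj b).symm) (eqToHom (D.x.w_obj b)) b.sec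
      rw [map_op_id B.obj _ (by simp)] at e
      exact (congrArg (B.obj.map (eqToHom hb.symm).op) e.symm).trans h
    let g : a ⟶ b := eltHom (eqToHom hb.symm) hs
    let g' : b ⟶ a := eltHom (eqToHom hb) (by rw [← hs, map_op_comp]; exact map_op_id B.obj _ (by simp) _)
    let gi : a ≅ b := ⟨g, g', Stk.EltObj.hom_ext (show eqToHom hb.symm ≫ eqToHom hb = 𝟙 _ by simp),
      Stk.EltObj.hom_ext (show eqToHom hb ≫ eqToHom hb.symm = 𝟙 _ by simp)⟩
    have hc : IsVert D.X.p (z.obj.iso.hom ≫ D.x.map g') :=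
      hi.comp (isVert_map (F := D.x) ⟨hb, rfl⟩)
    obtain ⟨α, hα⟩ := Groth.StkGerb.exists_autO D.fib (x := D.x.obj a) _ hc
    refine ⟨⟨a.base, ⟨a.sec, α⟩⟩, fpObjIso (Iso.refl _) gi ?_, rfl, ?_⟩
    · show D.x.map (𝟙 a) ≫ z.obj.iso.hom = (iso α).hom ≫ D.x.map g
      rw [hisoeq, hα, Category.assoc, xmap_eq g' g (𝟙 b) (show eqToHom hb ≫ eqToHom hb.symm = 𝟙 _ by simp), D.x.toFunctor.map_id,
        D.x.toFunctor.map_id, Category.id_comp, Category.comp_id]
    · exact (eqToHom_refl _ _).symm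

theorem kOf_of_map_eq {ξ : D.X.obj} {T' T : Over S} (k : T' ⟶ T) (p : PElt D ξ T)
    (q : PElt D ξ T') (hk : (homPsh D ξ).map k.op p = q) : k ≫ kOf p.χ = kOf q.χ := by
  subst hk
  exact (kOf_comp (hat k p.v) p.χ).symm

theorem map_comp_of_map_eq {ξ : D.X.obj} {T' T : Over S} (k : T' ⟶ T) (p : PElt D ξ T)
    (q : PElt D ξ T') (hk : (homPsh D ξ).map k.op p = q) (g : el T' q.v ⟶ el T p.v) (hg : g.hom = k) :
    D.x.map g ≫ p.χ = q.χ := by
  subst hk
  rw [show g = hat k p.v from Stk.EltObj.hom_ext hg]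
  rfl

/-- The morphisms from the section to `ξ` are the fibre product of the section with `ξ`. -/
theorem exists_equiv_homPsh (ξ : D.X.obj) :
    ∃ E : Stk.ofPsh (homPsh D ξ) ⥤ᵇ FibCat.fp D.x (overFunctor D.fib ξ rfl), FibCat.IsEquivOver E := by
  obtain ⟨i, hi⟩ := overFunctor_eval D.fib ξ rfl
  let Y := overFunctor D.fib ξ rfl
  let can : ∀ g : (FibCat.overCat (D.X.p.obj ξ)).obj, Y.obj g ⟶ ξ := fun g => Y.map (toId g) ≫ i.hom
  have hcan : ∀ g, D.X.p.map (can g) = eqToHom (Y.w_obj g) ≫ g.hom := fun g => by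
    simp only [can, Functor.map_comp, hi.map_eq, map_map]
    simp [overCat_map, toId]
  have hcan' : ∀ {g g' : (FibCat.overCat (D.X.p.obj ξ)).obj} (f : g ⟶ g'), Y.map f ≫ can g' = can g := by
    intro g g' f
    simp only [can]
    rw [← Category.assoc, ← Y.toFunctor.map_comp, toId_naturality]
  have hex : ∀ {T : Over S} (p : PElt D ξ T),
      ∃ j : D.x.obj (el T p.v) ≅ Y.obj (Over.mk (kOf p.χ)), IsVert D.X.p j.hom ∧
        j.hom ≫ can (Over.mk (kOf p.χ)) = p.χ := fun {T} p => by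
    refine exists_vert_iso_of_lifts D.fib _ _
      ((D.x.w_obj _).trans (Y.w_obj (Over.mk (kOf p.χ))).symm) ?_
    rw [hcan]
    simp [kOf]
  choose j hj hj' using @hex
  have hk : ∀ {a b : (Stk.ofPsh (homPsh D ξ)).obj} (f : a ⟶ b), f.hom ≫ kOf b.sec.χ = kOf a.sec.χ :=
    fun {a b} f => by
    exact kOf_of_map_eq D f.hom b.sec a.sec f.map_sec
  have hx : ∀ {a b : (Stk.ofPsh (homPsh D ξ)).obj} (f : a ⟶ b)
      (g : el a.base a.sec.v ⟶ el b.base b.sec.v), g.hom = f.hom → D.x.map g ≫ b.sec.χ = a.sec.χ :=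
    fun {a b} f g hg => by
    exact map_comp_of_map_eq D f.hom b.sec a.sec f.map_sec g hg
  let F : ∀ {a b : (Stk.ofPsh (homPsh D ξ)).obj} (_ : a ⟶ b), el a.base a.sec.v ⟶ el b.base b.sec.v :=
    fun {a b} f => eltHom f.hom (congrArg PElt.v f.map_sec)
  let E : Stk.ofPsh (homPsh D ξ) ⥤ᵇ FibCat.fp D.x Y :=
    { toFunctor :=
        { obj := fun a => fpMk (F := D.x) (G := Y) (el a.base a.sec.v) (Over.mk (kOf a.sec.χ))
            (j a.sec) (hj a.sec)
          map := fun {a b} f => fpHom (F f) (Over.homMk f.hom (hk f)) (by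
            apply hom_eq_of_comp_eq D.fib (can (Over.mk (kOf b.sec.χ)))
            · show D.X.p.map (D.x.map (F f) ≫ (j b.sec).hom) =
                D.X.p.map ((j a.sec).hom ≫ Y.map (Over.homMk f.hom (hk f) : Over.mk (kOf a.sec.χ) ⟶ Over.mk (kOf b.sec.χ)))
              simp only [Functor.map_comp, map_map, (hj b.sec).map_eq, (hj a.sec).map_eq]
              simp [F, overCat_map]
              rfl
            · show (D.x.map (F f) ≫ (j b.sec).hom) ≫ _ = ((j a.sec).hom ≫ Y.map (Over.homMk f.hom (hk f) : Over.mk (kOf a.sec.χ) ⟶ Over.mk (kOf b.sec.χ))) ≫ _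
              rw [Category.assoc, hj', Category.assoc, hcan', hj', hx f (F f) rfl])
          map_id := fun a => fp_hom_ext (Stk.EltObj.hom_ext rfl) (Over.OverMorphism.ext rfl)
          map_comp := fun f g => fp_hom_ext (Stk.EltObj.hom_ext rfl) (Over.OverMorphism.ext rfl) }
      w := rfl }
  refine ⟨E, isEquivOver_of_fullyFaithful E ⟨fun {a b} m => ?_⟩ ⟨fun {a b} f g h => ?_⟩ fun z => ?_⟩
  · let f₁ : el a.base a.sec.v ⟶ el b.base b.sec.v := m.hom.fst
    let f₂ : Over.mk (kOf a.sec.χ) ⟶ Over.mk (kOf b.sec.χ) := m.hom.snd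
    let k : a.base ⟶ b.base := f₁.hom
    have hs : f₂.left = k := (fp_map_snd m).trans (by
      show eqToHom _ ≫ k ≫ eqToHom _ = k
      simp)
    have hv : B.obj.map k.op b.sec.v = a.sec.v := f₁.map_sec
    have w : D.x.map f₁ ≫ (j b.sec).hom = (j a.sec).hom ≫ Y.map f₂ := m.hom.w
    have hsec : (homPsh D ξ).map k.op b.sec = a.sec := by
      refine PElt.ext' hv ?_
      show D.x.map (castEl hv) ≫ D.x.map (hat k b.sec.v) ≫ b.sec.χ = _
      rw [← Category.assoc, xmap_eq (castEl hv) (hat k b.sec.v) f₁ (Category.id_comp _), ← hj' b.sec,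
        ← Category.assoc, w, Category.assoc, hcan', hj']
    exact ⟨eltHom k hsec, fp_hom_ext (Stk.EltObj.hom_ext rfl) (Over.OverMorphism.ext hs.symm)⟩
  · exact Stk.EltObj.hom_ext (congrArg (fun m => m.hom.fst.hom) h)
  · let a := z.obj.fst
    let g := z.obj.snd
    have hg : g.left = a.base := fp_p_snd z
    let χ : D.x.obj a ⟶ ξ := z.obj.iso.hom ≫ can g
    have hkχ : kOf χ = eqToHom hg.symm ≫ g.hom := by
      simp only [χ, kOf, Functor.map_comp, (fp_isVert z).map_eq, hcan]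
      simp
    let gi : Over.mk (kOf χ) ≅ g := Over.isoMk (eqToIso hg.symm) hkχ.symm
    refine ⟨⟨a.base, ⟨a.sec, χ⟩⟩, fpObjIso (Iso.refl _) gi ?_, rfl, ?_⟩
    · show D.x.map (𝟙 a) ≫ z.obj.iso.hom = (j (⟨a.sec, χ⟩ : PElt D ξ a.base)).hom ≫ Y.map gi.hom
      apply hom_eq_of_comp_eq D.fib (can g)
      · simp only [Functor.map_comp, map_map, (hj _).map_eq, (fp_isVert z).map_eq]
        simp [gi, overCat_map]
      · rw [Category.assoc, Category.assoc, hcan', hj', D.x.toFunctor.map_id, Category.id_comp]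
    · exact (eqToHom_refl _ _).symm

theorem isStack_ofSp (F : AlgSp.Sp S) : Stk.IsStack (AlgSp.J S) (AlgSt.ofSp F) :=
  (isStack_ofPsh_iff _ _).2 ((isSheaf_iff_isSheaf_of_type _ _).1 F.property)

theorem isSheaf_autPsh : Presheaf.IsSheaf (AlgSp.J S) (autPsh D) := by
  obtain ⟨E, hE, -⟩ := exists_equiv_autPsh D
  exact (isSheaf_iff_isSheaf_of_type _ _).2 ((isStack_ofPsh_iff _ _).1
    ((isStack_iff_of_isEquivOver (AlgSp.J S) hE).2
      (isStack_fp _ (isStack_ofSp B) (isStack_ofSp B) (isPrestack_of_isStack D.isStack))))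

theorem isSheaf_homPsh (ξ : D.X.obj) : Presheaf.IsSheaf (AlgSp.J S) (homPsh D ξ) := by
  obtain ⟨E, hE⟩ := exists_equiv_homPsh D ξ
  exact (isSheaf_iff_isSheaf_of_type _ _).2 ((isStack_ofPsh_iff _ _).1
    ((isStack_iff_of_isEquivOver (AlgSp.J S) hE).2
      (isStack_fp _ (isStack_ofSp B)
        (Groth.AlgStBasic.isStack_of_repByAlgSp (Groth.AlgStBasic.repByAlgSp_overCat _))
        (isPrestack_of_isStack D.isStack))))

end Groth.StkGerb.Section
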