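import Groth.Prelude.Def_AlgSt6
import Groth.Agent.StkBase.Basic

/-!
# Quotient stacks along an isomorphism of groups
-/

set_option autoImplicit false
set_option backward.isDefEq.respectTransparency false
set_option backward.isDefEq.respectTransparency.types false

universe u

open CategoryTheory CategoryTheory.Limits AlgebraicGeometry Opposite MonoidalCategory CartesianMonoidalCategory
open CategoryTheory.MonObj
open scoped CategoryTheory.Obj

namespace Groth.StkGerb.Section

noncomputable section

variable {S : Scheme.{u}} {K : Precoverage Scheme.{u}} {B : AlgSp.Sp S} {G₁ G₂ X₁ X₂ : Over B}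
  [GrpObj G₁] [GrpObj G₂] {a₁ : AlgSp.GAction G₁ X₁} {a₂ : AlgSp.GAction G₂ X₂}
  (φ : G₂ ≅ G₁) [IsMonHom φ.hom] (χ : X₁ ≅ X₂)

/-- An action, restricted along an isomorphism of groups. -/
def pullAct {P : Over B} (a : AlgSp.GAction G₁ P) : AlgSp.GAction G₂ P where
  act := (φ.hom ▷ P) ≫ a.act
  one_act := by
    rw [← MonoidalCategory.comp_whiskerRight_assoc, IsMonHom.one_hom φ.hom, a.one_act]
  mul_act := by
    rw [← MonoidalCategory.comp_whiskerRight_assoc, IsMonHom.mul_hom φ.hom,
      MonoidalCategory.comp_whiskerRight_assoc, a.mul_act, MonoidalCategory.tensorHom_def,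
      MonoidalCategory.comp_whiskerRight]
    simp only [MonoidalCategory.whiskerLeft_comp, Category.assoc]
    rw [associator_naturality_middle_assoc, ← MonoidalCategory.whiskerLeft_comp_assoc,
      associator_naturality_left_assoc, ← whisker_exchange_assoc, MonoidalCategory.whiskerLeft_comp,
      Category.assoc]

theorem pullAct_cart {P T : Over B} (a : AlgSp.GAction G₁ P) (π : P ⟶ T)
    (h : IsPullback a.act (snd G₁ P) π π) :
    IsPullback (pullAct φ a).act (snd G₂ P) π π :=
  h.of_iso (whiskerRightIso φ P).symm (Iso.refl _) (Iso.refl _) (Iso.refl _)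
    (by simp [pullAct]) (by simp) (by simp) (by simp)

variable (hχ : (φ.hom ▷ X₁) ≫ a₁.act ≫ χ.hom = (G₂ ◁ χ.hom) ≫ a₂.act)

/-- Change of group along an isomorphism, on quotient stacks. -/
def congrQuot : AlgSt.SpQuotSt K G₁ a₁ ⥤ᵇ AlgSt.SpQuotSt K G₂ a₂ where
  toFunctor :=
    { obj := fun A =>
        { base := A.base
          b := A.b
          P := A.P
          act := pullAct φ A.act
          π := A.π
          cart := pullAct_cart φ A.act A.π A.cart
          loc := A.loc
          φ := A.φ ≫ χ.hom
          eqv := by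
            show ((φ.hom ▷ A.P) ≫ A.act.act) ≫ A.φ ≫ χ.hom = _
            rw [Category.assoc, reassoc_of% A.eqv, ← whisker_exchange_assoc, hχ,
              MonoidalCategory.whiskerLeft_comp, Category.assoc] }
      map := fun {A A'} f =>
        { base := f.base
          wb := f.wb
          top := f.top
          eqv := by
            show ((φ.hom ▷ A.P) ≫ A.act.act) ≫ f.top = (G₂ ◁ f.top) ≫ (φ.hom ▷ A'.P) ≫ A'.act.act
            rw [Category.assoc, f.eqv, whisker_exchange_assoc]
          cart := f.cart
          wφ := by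
            show f.top ≫ A'.φ ≫ χ.hom = A.φ ≫ χ.hom
            rw [reassoc_of% f.wφ] }
      map_id := fun _ => rfl
      map_comp := fun _ _ => rfl }
  w := rfl

omit [GrpObj G₁] in
theorem whiskerRight_hom_cancel {P Q : Over B} {f g : G₁ ⊗ P ⟶ Q}
    (h : (φ.hom ▷ P) ≫ f = (φ.hom ▷ P) ≫ g) : f = g :=
  (cancel_epi _).1 h

theorem isEquivOver_congrQuot : FibCat.IsEquivOver (congrQuot (K := K) φ χ hχ) := by
  refine Groth.StkBase.isEquivOver_of_fullyFaithful _ ⟨fun {A A'} h => ?_⟩
    ⟨fun {A A'} f g h => AlgSt.SpQuotObj.hom_ext (congrArg (fun m => m.base) h) (congrArg (fun m => m.top) h)⟩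
    fun A => ?_
  · refine ⟨{ base := h.base, wb := h.wb, top := h.top, eqv := ?_, cart := h.cart, wφ := ?_ }, rfl⟩
    · have e := h.eqv
      change ((φ.hom ▷ A.P) ≫ A.act.act) ≫ h.top = (G₂ ◁ h.top) ≫ (φ.hom ▷ A'.P) ≫ A'.act.act at e
      exact (cancel_epi _).1 ((Category.assoc _ _ _).symm.trans (e.trans (whisker_exchange_assoc φ.hom h.top A'.act.act)))
    · have e := h.wφ
      change h.top ≫ A'.φ ≫ χ.hom = A.φ ≫ χ.hom at e
      rw [← Category.assoc] at e
      exact (cancel_mono _).1 e
  · have hM : IsMonHom φ.symm.hom := inferInstanceAs (IsMonHom φ.inv)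
    let A₁ : AlgSt.SpQuotObj K G₁ a₁ :=
      { base := A.base
        b := A.b
        P := A.P
        act := pullAct φ.symm A.act
        π := A.π
        cart := pullAct_cart φ.symm A.act A.π A.cart
        loc := A.loc
        φ := A.φ ≫ χ.inv
        eqv := by
          show ((φ.inv ▷ A.P) ≫ A.act.act) ≫ A.φ ≫ χ.inv = (G₁ ◁ (A.φ ≫ χ.inv)) ≫ a₁.act
          apply whiskerRight_hom_cancel φ
          rw [← cancel_mono χ.hom]
          simp only [Category.assoc, hom_inv_whiskerRight_assoc, Iso.inv_hom_id, Category.comp_id,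
            A.eqv]
          rw [← whisker_exchange_assoc, hχ, ← MonoidalCategory.whiskerLeft_comp_assoc,
            Category.assoc, Iso.inv_hom_id, Category.comp_id] }
    have e1 : (φ.hom ▷ A.P) ≫ (φ.inv ▷ A.P) ≫ A.act.act = A.act.act := by
      rw [← MonoidalCategory.comp_whiskerRight_assoc, Iso.hom_inv_id,
        MonoidalCategory.id_whiskerRight, Category.id_comp]
    let X₁' := (congrQuot φ χ hχ).obj A₁
    let i : X₁' ≅ A :=
      { hom :=
          { base := 𝟙 A.base
            wb := by simp [X₁', A₁, congrQuot]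
            top := 𝟙 A.P
            eqv := by
              show ((φ.hom ▷ A.P) ≫ (φ.inv ▷ A.P) ≫ A.act.act) ≫ 𝟙 _ = (G₂ ◁ 𝟙 A.P) ≫ A.act.act
              rw [e1]
              simp
            cart := (𝟙 A : A ⟶ A).cart
            wφ := by simp [X₁', A₁, congrQuot] }
        inv :=
          { base := 𝟙 A.base
            wb := by simp [X₁', A₁, congrQuot]
            top := 𝟙 A.P
            eqv := by
              show A.act.act ≫ 𝟙 _ = (G₂ ◁ 𝟙 A.P) ≫ (φ.hom ▷ A.P) ≫ (φ.inv ▷ A.P) ≫ A.act.act
              rw [e1]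
              simp
            cart := (𝟙 A : A ⟶ A).cart
            wφ := by simp [X₁', A₁, congrQuot] }
        hom_inv_id := AlgSt.SpQuotObj.hom_ext (Category.comp_id _) (Category.comp_id _)
        inv_hom_id := AlgSt.SpQuotObj.hom_ext (Category.comp_id _) (Category.comp_id _) }
    refine ⟨A₁, i, ?_⟩
    exact ⟨rfl, rfl⟩

end

end Groth.StkGerb.Section
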