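import Groth.Agent.StkGerb.Section.SecEquiv
import Groth.Agent.StkGerb.Section.GroupCongr
import Groth.Agent.QuotStk.QuotStStack
import Groth.Agent.QuotStk.QuotFib
import Groth.Agent.AlgStBasic.Rep
import Groth.Agent.AlgSp2.AffineDescent
import Groth.Prelude.Def_StGerb2

/-!
# A gerbe over the base with a section whose automorphisms form a group scheme
-/

set_option autoImplicit false
set_option backward.isDefEq.respectTransparency false
set_option backward.isDefEq.respectTransparency.types false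
set_option synthInstance.maxHeartbeats 400000

universe u

open CategoryTheory CategoryTheory.Limits AlgebraicGeometry Opposite MonoidalCategory CartesianMonoidalCategory
open CategoryTheory.MonObj
open scoped CategoryTheory.Obj

namespace Groth.StkGerb.Section

open Groth.StkBase Groth.QuotStk
open Groth.AlgSpBasic (yEquiv)

noncomputable section

variable {S : Scheme.{u}} {𝒳 : AlgSt.Cat S} (hX : Stk.IsStack (AlgSp.J S) 𝒳)
  {π : 𝒳 ⥤ᵇ FibCat.overCat (Over.mk (𝟙 S))}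
  {x : FibCat.overCat (Over.mk (𝟙 S)) ⥤ᵇ 𝒳}
  (e : BasedFunctor.comp x π ≅ BasedFunctor.id (FibCat.overCat (Over.mk (𝟙 S))))
  {G : Over S} [GrpObj G] (r : Gerb.AutRep x (Gerb.ptsGrp (Over.mk (𝟙 S)) G))

/-- The point, as a stack over the base sheaf with a section. -/
def baseData : SecData S (B0 S) where
  X := 𝒳
  isStack := hX
  π := BasedFunctor.comp π (AlgSt.ofOverCat (Over.mk (𝟙 S)))
  x := BasedFunctor.comp (AlgSt.toOverCat (Over.mk (𝟙 S))) x
  ex := whiskerLeftIso (AlgSt.toOverCat (Over.mk (𝟙 S)))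
    (whiskerRightIso e (AlgSt.ofOverCat (Over.mk (𝟙 S)))) ≪≫
      eqToIso (Groth.AlgStBasic.toOverCat_ofOverCat _)

set_option quotPrecheck false in
local notation "𝔻" => baseData hX e
set_option quotPrecheck false in
local notation "FG" => (emb S).obj G

omit [GrpObj G] in
theorem structure_left (t : Over (Over.mk (𝟙 S))) : t.hom.left = t.left.hom := by
  simpa using Over.w t.hom

/-- A point of the group, as a point over the base. -/
def slicePt (t : Over (Over.mk (𝟙 S))) (k : t.left ⟶ G) :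
    (Over.iteratedSliceForward (Over.mk (𝟙 S))).obj t ⟶ G :=
  Over.homMk k.left (show k.left ≫ G.hom = t.hom.left from (Over.w k).trans (structure_left t).symm)

omit [GrpObj G] in
theorem slicePt_comp {t' t : Over (Over.mk (𝟙 S))} (h : t' ⟶ t) (k : t.left ⟶ G) :
    (Over.iteratedSliceForward (Over.mk (𝟙 S))).map h ≫ slicePt t k = slicePt t' (h.left ≫ k) :=
  Over.OverMorphism.ext rfl

/-- The automorphism of the section given by a point of the group. -/
def autPt (t : Over (Over.mk (𝟙 S))) (k : t.left ⟶ G) : Gerb.AutO (x.obj t) :=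
  r.iso t (slicePt t k)

theorem res_autPt {t' t : Over (Over.mk (𝟙 S))} (h : t' ⟶ t) (k : t.left ⟶ G) :
    Band.res hX.1 (x.map h) (autPt r t k) = autPt r t' (h.left ≫ k) := by
  refine Band.res_eq hX.1 _ _ _ ?_
  have hn := r.natural h (slicePt t k)
  change (r.iso t' ((Over.iteratedSliceForward (Over.mk (𝟙 S))).map h ≫ slicePt t k)).hom.1 ≫ _ = _ at hn
  rw [slicePt_comp] at hn
  exact hn

theorem autPt_mul (t : Over (Over.mk (𝟙 S))) (k k' : t.left ⟶ G) :
    autPt r t (k * k') = autPt r t k * autPt r t k' := by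
  have : slicePt t (k * k') = slicePt t k * slicePt t k' := Over.OverMorphism.ext rfl
  rw [autPt, this]
  exact map_mul (r.iso t) _ _

theorem autPt_bijective (t : Over (Over.mk (𝟙 S))) : Function.Bijective (autPt (G := G) r t) := by
  refine (r.iso t).bijective.comp ⟨fun k k' h => Over.OverMorphism.ext (congrArg (fun m => m.left) h),
    fun c => ⟨Over.homMk c.left ((Over.w c).trans (structure_left t)), Over.OverMorphism.ext rfl⟩⟩

/-- The family of automorphisms over the group. -/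
def autFam : gFam 𝔻 FG :=
  ⟨fun T p => autPt r (Over.mk ((FG).hom.hom.app (op T) p).down) p.down,
    fun T' T k p => res_autPt hX r
      ((AlgSt.toOverCat (Over.mk (𝟙 S))).map (rhat (Z := FG) k p)) p.down⟩

/-- The group scheme maps to the automorphism group. -/
def toGG : FG ⟶ GG 𝔻 := gHom (autFam hX e r)

theorem gVal_emb_comp {T : Over S} (k : T ⟶ G) (T' : Over S) (p : ((emb S).obj T).left.obj.obj (op T')) :
    gVal (D := 𝔻) ((emb S).map k ≫ toGG hX e r) T' p =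
      autPt r (Over.mk (((emb S).obj T).hom.hom.app (op T') p).down) (p.down ≫ k) := by
  rw [gVal_comp, show gVal (toGG hX e r) = (autFam hX e r).1 from
    congrArg Subtype.val ((gEquiv 𝔻 FG).apply_symm_apply _)]
  exact res_autPt hX r ((AlgSt.toOverCat (Over.mk (𝟙 S))).map (castEl _)) _ |>.trans
    (congrArg (autPt r _) (Category.id_comp _))

theorem hom_ext_emb {Z W : Over (B0 S)} {a b : Z ⟶ W}
    (h : ∀ (T : Over S) (q : (emb S).obj T ⟶ Z), q ≫ a = q ≫ b) : a = b := by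
  refine Over.OverMorphism.ext (Groth.AlgSp2.hom_ext_yon fun T z => ?_)
  exact congrArg (fun m => m.left)
    (h T (Over.homMk z ((subsingleton_hom_B0 T).elim _ _)))

theorem toGG_mul {Z : Over (B0 S)} (g h : Z ⟶ FG) :
    (g * h) ≫ toGG hX e r = (g ≫ toGG hX e r) * (h ≫ toGG hX e r) := by
  refine hom_ext_emb fun T q => ?_
  rw [← Category.assoc, MonObj.comp_mul, MonObj.comp_mul, ← Category.assoc, ← Category.assoc]
  obtain ⟨a, ha⟩ := emb_hom_surjective (q ≫ g)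
  obtain ⟨b, hb⟩ := emb_hom_surjective (q ≫ h)
  rw [← ha, ← hb, ← Functor.map_mul]
  refine gVal_ext fun T' p => ?_
  rw [gVal_mul, gVal_emb_comp, gVal_emb_comp, gVal_emb_comp, MonObj.comp_mul, autPt_mul]

instance isMonHom_toGG : IsMonHom (toGG hX e r) := by
  have hm : μ[FG] = fst FG FG * snd FG FG := by rw [Hom.mul_def, lift_fst_snd, Category.id_comp]
  have h1 : (1 : 𝟙_ (Over (B0 S)) ⟶ FG) ≫ toGG hX e r = 1 := by
    have := toGG_mul hX e r (1 : 𝟙_ (Over (B0 S)) ⟶ FG) 1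
    rw [_root_.one_mul] at this
    exact left_eq_mul.1 this
  refine ⟨?_, ?_⟩
  · simpa [Hom.one_def] using h1
  · rw [hm, toGG_mul, Hom.mul_def, lift_fst_comp_snd_comp]

theorem isIso_toGG : IsIso (toGG hX e r) := by
  have hb : ∀ T : (Over S)ᵒᵖ, Function.Bijective ((toGG hX e r).left.hom.app T) := fun T => by
    constructor
    · intro p q hpq
      have hv : ((FG).hom.hom.app T p) = ((FG).hom.hom.app T q) := congrArg (·.v) hpq
      have key : ∀ (v w : (B0 S).obj.obj T) (a b : T.unop ⟶ G), v = w →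
          (⟨v, autPt r (Over.mk v.down) a⟩ : GElt 𝔻 T.unop) = ⟨w, autPt r (Over.mk w.down) b⟩ → a = b := by
        rintro v w a b rfl hab
        exact (autPt_bijective r _).1 (eq_of_heq (GElt.mk.inj hab).2)
      exact ULift.ext _ _ (key _ _ _ _ hv hpq)
    · rintro ⟨v, α⟩
      obtain ⟨k, hk⟩ := (autPt_bijective r (Over.mk v.down)).2 α
      refine ⟨ULift.up k, ?_⟩
      have key : ∀ (w : (B0 S).obj.obj T), w = v →
          (⟨w, autPt r (Over.mk w.down) k⟩ : GElt 𝔻 T.unop) = ⟨v, α⟩ := by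
        rintro w rfl
        exact congrArg (GElt.mk w) hk
      refine key _ (ULift.ext _ _ ?_)
      exact Over.OverMorphism.ext ((structure_left (Over.mk _)).trans (structure_left (Over.mk v.down)).symm)
  have : IsIso (toGG hX e r).left.hom := by
    have : ∀ T, IsIso ((toGG hX e r).left.hom.app T) := fun T => (isIso_iff_bijective _).2 (hb T)
    exact NatIso.isIso_of_isIso_app _
  have : IsIso ((sheafToPresheaf _ _).map (toGG hX e r).left) := this
  have : IsIso (toGG hX e r).left := isIso_of_reflects_iso _ (sheafToPresheaf _ _)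
  have : IsIso ((Over.forget (B0 S)).map (toGG hX e r)) := this
  exact isIso_of_reflects_iso _ (Over.forget (B0 S))

theorem trivGAction_congr {B : AlgSp.Sp S} {G₁ G₂ : Over B} [GrpObj G₁] [GrpObj G₂] (φ : G₂ ⟶ G₁)
    {X : Over B} (a : AlgSp.GAction G₂ X) (χ : 𝟙_ (Over B) ≅ X) (hX' : IsTerminal X) :
    (φ ▷ 𝟙_ (Over B)) ≫ (AlgSt.trivGAction G₁).act ≫ χ.hom = (G₂ ◁ χ.hom) ≫ a.act :=
  hX'.hom_ext _ _

theorem exists_vert_preimage_hom {C₁ : BasedCategory.{u + 1, u + 2} (Over S)}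
    {C₂ : BasedCategory.{u + 1, u + 2} (Over S)} {C₀ : AlgSt.Cat S} (P : 𝒳 ⥤ᵇ C₁) (e' : C₁ ⥤ᵇ 𝒳)
    (a : BasedFunctor.comp P e' ≅ BasedFunctor.id 𝒳) (F : C₁ ⥤ᵇ C₂) (F' : C₂ ⥤ᵇ C₁)
    (i : BasedFunctor.comp F F' ≅ BasedFunctor.id C₁) (E : C₀ ⥤ᵇ C₂) (A : C₀.obj) (ξ : 𝒳.obj)
    (j : E.obj A ≅ F.obj (P.obj ξ)) (hj : Groth.StkBase.IsVert C₂.p j.hom) :
    ∃ q : (BasedFunctor.comp E (BasedFunctor.comp F' e')).obj A ⟶ ξ, Groth.StkBase.IsVert 𝒳.p q :=
  ⟨e'.map (F'.map j.hom) ≫ e'.map ((Groth.StkBase.isoApp i (P.obj ξ)).hom) ≫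
      (Groth.StkBase.isoApp a ξ).hom,
    (Groth.StkBase.isVert_map (Groth.StkBase.isVert_map hj)).comp
      ((Groth.StkBase.isVert_map (Groth.StkBase.isVert_isoApp i _)).comp (Groth.StkBase.isVert_isoApp a _))⟩

theorem exists_vert_of_point (A : AlgSt.QuotObj Scheme.fppfPrecoverage G (AlgSt.trivAction G))
    (hA : A.base = Over.mk (𝟙 S)) (σ : Over.mk (𝟙 S) ⟶ A.P) :
    ∃ m : (AlgSt.quotMap Scheme.fppfPrecoverage G (AlgSt.trivAction G)).obj
        ((AlgSt.ofOverCat (Over.mk (𝟙 S))).obj (idObj (Over.mk (𝟙 S)))) ⟶ A,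
      Groth.StkBase.IsVert (AlgSt.BG Scheme.fppfPrecoverage G).p m := by
  have hterm : σ ≫ A.φ = 𝟙 (Over.mk (𝟙 S)) := (Over.mkIdTerminal (X := S)).hom_ext _ _
  have h₀ : (AlgSt.quotMap Scheme.fppfPrecoverage G (AlgSt.trivAction G)).obj
      ((AlgSt.ofOverCat (Over.mk (𝟙 S))).obj (idObj (Over.mk (𝟙 S)))) =
      trivT (AlgSt.trivAction G) (σ ≫ A.φ) := by
    rw [hterm]
    rfl
  refine ⟨eqToHom h₀ ≫ homOfPt A σ, (Groth.StkBase.isVert_eqToHom _).comp ⟨hA.symm, ?_⟩⟩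
  refine (cancel_mono (eqToHom hA)).1 ?_
  exact (Over.mkIdTerminal (X := S)).hom_ext _ _

theorem nonempty_iso_of_point (hX : Stk.IsStack (AlgSp.J S) 𝒳)
    (I : AlgSt.BG Scheme.fppfPrecoverage G ⥤ᵇ 𝒳)
    (A : AlgSt.QuotObj Scheme.fppfPrecoverage G (AlgSt.trivAction G)) (hA : A.base = Over.mk (𝟙 S))
    (σ : Over.mk (𝟙 S) ⟶ A.P) (q : I.obj A ⟶ x.obj (idObj (Over.mk (𝟙 S))))
    (hq : Groth.StkBase.IsVert 𝒳.p q) :
    Nonempty (BasedFunctor.comp (AlgSt.quotMap Scheme.fppfPrecoverage G (AlgSt.trivAction G)) I ≅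
      BasedFunctor.comp (AlgSt.toOverCat (Over.mk (𝟙 S))) x) := by
  let Q := BasedFunctor.comp (AlgSt.quotMap Scheme.fppfPrecoverage G (AlgSt.trivAction G)) I
  obtain ⟨m, hm⟩ := exists_vert_of_point A hA σ
  obtain ⟨ε⟩ := (Groth.StkBase.nonempty_overIso_iff hX.1
    (BasedFunctor.comp (AlgSt.ofOverCat (Over.mk (𝟙 S))) Q) x).2
    ⟨I.map m ≫ q, (Groth.StkBase.isVert_map hm).comp hq⟩
  exact ⟨Groth.StkBase.whiskerRightIso (eqToIso (Groth.AlgStBasic.toOverCat_ofOverCat (Over.mk (𝟙 S))).symm) Q ≪≫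
    Groth.StkBase.whiskerLeftIso (AlgSt.toOverCat (Over.mk (𝟙 S))) ε⟩

/-- The torsor of morphisms out of the section to itself has the identity as a point. -/
theorem nonempty_point {A : AlgSt.QuotObj Scheme.fppfPrecoverage G (AlgSt.trivAction G)}
    (j : PP 𝔻 (x.obj (idObj (Over.mk (𝟙 S)))) ⟶ (emb S).obj A.P) :
    Nonempty (Over.mk (𝟙 S) ⟶ A.P) :=
  ⟨(j.left.hom.app (op (Over.mk (𝟙 S)))
    (⟨⟨𝟙 (Over.mk (𝟙 S))⟩, 𝟙 _⟩ : PElt 𝔻 (x.obj (idObj (Over.mk (𝟙 S)))) (Over.mk (𝟙 S)))).down⟩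

include hX e r in
/-- A gerbe over the base with a section whose automorphisms form an affine group scheme is its
classifying stack of scheme torsors. -/
theorem exists_equiv_of_section [IsAffineHom G.hom]
    (hπ : Gerb.LocSurjHom (AlgSp.J S) π) :
    ∃ I : AlgSt.BG Scheme.fppfPrecoverage G ⥤ᵇ 𝒳, FibCat.IsEquivOver I ∧
      Nonempty (BasedFunctor.comp (AlgSt.quotMap Scheme.fppfPrecoverage G (AlgSt.trivAction G)) I ≅
        BasedFunctor.comp (AlgSt.toOverCat (Over.mk (𝟙 S))) x) := by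
  have hπ' : Gerb.LocSurjHom (AlgSp.J S) (baseData hX e).π := by
    intro ξ ξ' b hb
    let b' : π.obj ξ ⟶ π.obj ξ' := (AlgSt.toOverCat (Over.mk (𝟙 S))).map b
    have hb₀ : (AlgSt.ofSch (Over.mk (𝟙 S))).p.IsHomLift (𝟙 (𝒳.p.obj ξ)) b := hb
    have hb' : (FibCat.overCat (Over.mk (𝟙 S))).p.IsHomLift (𝟙 (𝒳.p.obj ξ)) b' :=
      BasedFunctor.preserves_isHomLift (AlgSt.toOverCat (Over.mk (𝟙 S))) _ b
    obtain ⟨R, hR, hl⟩ := hπ ξ ξ' b' hb'
    refine ⟨R, hR, fun V f hf => ?_⟩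
    obtain ⟨x₀, φ, ψ, hφ, hψ, h⟩ := hl f hf
    exact ⟨x₀, φ, ψ, hφ, hψ, Stk.EltObj.hom_ext (congrArg CommaMorphism.left h)⟩
  have := isIso_toGG hX e r
  let φ : FG ≅ GG 𝔻 := asIso (toGG hX e r)
  have : IsMonHom φ.hom := isMonHom_toGG hX e r
  let χ : 𝟙_ (Over (B0 S)) ≅ (emb S).obj (𝟙_ (Over S)) := Functor.Monoidal.εIso (emb S)
  let K := Scheme.fppfPrecoverage.{u}
  let F : AlgSt.SpBG K (GG 𝔻) ⥤ᵇ AlgSt.SpQuotSt K FG (embAction (AlgSt.trivAction G)) :=
    congrQuot φ χ (trivGAction_congr φ.hom _ χ (isTerminalTensorUnit.ofIso χ))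
  have hF : FibCat.IsEquivOver F := isEquivOver_congrQuot _ _ _
  obtain ⟨F', ⟨i₁⟩, ⟨i₂⟩⟩ := hF
  obtain ⟨e', ⟨a₁⟩, ⟨a₂⟩⟩ := isEquivOver_toBG (D := 𝔻) hπ'
  let E := embQuot (AlgSt.trivAction G)
  let I := BasedFunctor.comp E (BasedFunctor.comp F' e')
  have hI : FibCat.IsEquivOver I := Groth.StkBase.isEquivOver_comp isEquivOver_embQuot
    (Groth.StkBase.isEquivOver_comp ⟨F, ⟨i₂⟩, ⟨i₁⟩⟩ ⟨toBG (D := 𝔻) hπ', ⟨a₂⟩, ⟨a₁⟩⟩)
  let ξ₀ : 𝒳.obj := x.obj (idObj (Over.mk (𝟙 S)))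
  let P₀ := toBG (D := 𝔻) hπ'
  obtain ⟨A, j, hj⟩ := ((Groth.StkBase.isEquivOver_iff E).1 isEquivOver_embQuot).2.2 (F.obj (P₀.obj ξ₀))
  obtain ⟨σ⟩ := nonempty_point hX e (A := A) j.inv.top
  obtain ⟨q, hq⟩ := exists_vert_preimage_hom P₀ e' a₁ F F' i₁ E A ξ₀ j hj
  exact ⟨I, hI, nonempty_iso_of_point hX I A (hj.obj_eq.trans (x.w_obj (idObj (Over.mk (𝟙 S))))) σ q hq⟩

include hX e r in
/-- A gerbe over the base with a section whose automorphisms form an affine group scheme is its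
classifying stack of scheme torsors. -/
theorem isQuotientOf_of_section [IsAffineHom G.hom]
    (hπ : Gerb.LocSurjHom (AlgSp.J S) π) :
    AlgSt.IsQuotientOf Scheme.fppfPrecoverage G (AlgSt.trivAction G) 𝒳 := by
  obtain ⟨I, hI, -⟩ := exists_equiv_of_section hX e r hπ
  exact ⟨I, hI⟩

end

end Groth.StkGerb.Section
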