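import Groth.Agent.StkGerb.Section.SecMain
import Groth.Agent.StkGerb.Over
import Groth.Agent.StkGerb.Surj
import Groth.Agent.StkGerb.GerbeApps
import Groth.Agent.AlgStBasic.RepCalc

/-!
# Gerbes are locally classifying stacks
-/

set_option autoImplicit false
set_option backward.isDefEq.respectTransparency false
set_option backward.isDefEq.respectTransparency.types false

universe u v₄ u₄ v₃ u₃ v₂ u₂ v w

open CategoryTheory CategoryTheory.Limits AlgebraicGeometry Opposite MonoidalCategory CartesianMonoidalCategory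
open CategoryTheory.MonObj
open scoped CategoryTheory.Obj

namespace Groth.StkGerb

open Groth.StkBase

section General

variable {C : Type w} [Category.{v} C] {J : GrothendieckTopology C}
variable {𝒳 : BasedCategory.{v₂, u₂} C} {𝒴 : BasedCategory.{v₃, u₃} C}

/-- Being a gerbe is invariant under isomorphism of functors. -/
theorem isGerbeOver_of_iso {F F' : 𝒳 ⥤ᵇ 𝒴} (α : F ≅ F') (h : Gerb.IsGerbeOver J F) :
    Gerb.IsGerbeOver J F' := by
  refine ⟨fun y => ?_, fun x x' b hb => ?_⟩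
  · obtain ⟨R, hR, hR'⟩ := h.1 y
    refine ⟨R, hR, fun V f hf => ?_⟩
    obtain ⟨x, g, hg⟩ := hR' f hf
    obtain ⟨h₁, h₂, e⟩ := (isHomLift_iff_eqToHom _ _).1 hg
    refine ⟨x, (isoApp α x).inv ≫ g, IsHomLift.of_fac' _ _ _
      ((isVert_isoApp α x).obj_eq.symm.trans h₁) h₂ ?_⟩
    rw [Functor.map_comp, (isVert_isoApp α x).inv.map_eq, e]
    simp
  · obtain ⟨R, hR, hR'⟩ := h.2 x x' ((isoApp α x).hom ≫ b ≫ (isoApp α x').inv)
      (IsVert.isHomLift ((isVert_isoApp α x).comp ((isVert_of_isHomLift hb).comp (isVert_isoApp α x').inv))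
        (F.w_obj x))
    refine ⟨R, hR, fun V f hf => ?_⟩
    obtain ⟨x₀, φ, ψ, hφ, hψ, e⟩ := hR' f hf
    refine ⟨x₀, φ, ψ, hφ, hψ, ?_⟩
    have e' : (isoApp α x₀).inv ≫ (F.map φ ≫ (isoApp α x).hom ≫ b ≫ (isoApp α x').inv) ≫ (isoApp α x').hom =
        (isoApp α x₀).inv ≫ F.map ψ ≫ (isoApp α x').hom := by rw [e]
    simp only [Category.assoc, Iso.inv_hom_id, Category.comp_id] at e'
    rw [← Category.assoc (F.map φ), isoApp_naturality α φ, isoApp_naturality α ψ] at e'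
    simpa using e'

/-- An equivalence over the base is a gerbe. -/
theorem isGerbeOver_of_isEquivOver {F : 𝒳 ⥤ᵇ 𝒴} (hY : FibCat.IsFibGrpd 𝒴.p) (hF : FibCat.IsEquivOver F) :
    Gerb.IsGerbeOver J F := by
  have hfull := full_of_isEquivOver hF
  refine ⟨fun y => ⟨⊤, J.top_mem _, fun V f _ => ?_⟩, fun x x' b hb => ⟨⊤, J.top_mem _, fun V f _ => ?_⟩⟩
  · obtain ⟨y', l, hy', hl⟩ := exists_lift' hY f
    obtain ⟨x, i, hi⟩ := exists_vert_preimage hF y'
    exact ⟨x, i.hom ≫ l, IsHomLift.of_fac' _ _ _ (hi.obj_eq.trans hy') rfl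
      (by rw [Functor.map_comp, hi.map_eq, hl]; simp)⟩
  · obtain ⟨F', hF', -⟩ := isEquivOver_symm hF
    have hX := isFibGrpd_of_isEquivOver hF' hY
    obtain ⟨x₀, φ, hx₀, hφ⟩ := exists_lift' hX f
    have hv := (isVert_of_isHomLift hb)
    refine ⟨x₀, φ, φ ≫ F.toFunctor.preimage b, IsHomLift.of_fac' _ _ _ hx₀ rfl (by simp [hφ]),
      IsHomLift.of_fac' _ _ _ hx₀ ((F.w_obj x').symm.trans (hv.obj_eq.symm.trans (F.w_obj x))) ?_, ?_⟩
    · have e : 𝒳.p.map (F.toFunctor.preimage b) =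
          eqToHom ((F.w_obj x).symm.trans (hv.obj_eq.trans (F.w_obj x'))) := by
        have h := map_map F (F.toFunctor.preimage b)
        rw [F.toFunctor.map_preimage, hv.map_eq] at h
        rw [← cancel_epi (eqToHom (F.w_obj x)), ← cancel_mono (eqToHom (F.w_obj x').symm)]
        simp only [Category.assoc] at h ⊢
        rw [← h]
        simp
      rw [Functor.map_comp, e, hφ]
      simp
    · rw [F.toFunctor.map_comp, F.toFunctor.map_preimage]

end General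

variable {S : Scheme.{u}} {B : AlgSp.Sp S} {G : Over B} [GrpObj G]

local notation "q₀" => W4stkstmgerbes.spQuotToBase Scheme.fppfPrecoverage G (AlgSt.trivGAction G)

open Groth.AlgSpBasic (yEquiv) in
/-- The classifying stack of a group over a sheaf is a gerbe over the sheaf. -/
theorem isGerbeOver_spQuotToBase : Gerb.IsGerbeOver (AlgSp.J S) q₀ := by
  have hbase : ∀ (a : (AlgSt.ofSp (𝟙_ (Over B)).left).obj),
      ((q₀).obj (StkBG.trivAt (AlgSt.trivGAction G) a)).sec = a.sec := fun a => by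
    show yEquiv (AlgSt.secYon a ≫ (𝟙 B)) = a.sec
    exact (congrArg yEquiv (Category.comp_id (AlgSt.secYon a))).trans (Equiv.apply_symm_apply _ _)
  refine ⟨fun y => ⟨⊤, GrothendieckTopology.top_mem _ _, fun V f _ => ?_⟩, fun A A' b hb => ?_⟩
  · let a : (AlgSt.ofSp (𝟙_ (Over B)).left).obj := Section.el V (B.obj.map f.op y.sec)
    exact ⟨StkBG.trivAt (AlgSt.trivGAction G) a,
      eltHom (b := y) f (hbase a).symm,
      IsHomLift.of_fac' _ _ _ rfl rfl (by simp; rfl)⟩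
  · obtain ⟨h₁, h₂, eb⟩ := (isHomLift_iff_eqToHom _ _).1 hb
    refine ⟨QuotStk.secSieve A.π.left ⊓ (QuotStk.secSieve A'.π.left).pullback b.hom,
      GrothendieckTopology.intersection_covering _ (QuotStk.secSieve_mem_of_hasSecLoc A.loc)
        (GrothendieckTopology.pullback_stable _ b.hom (QuotStk.secSieve_mem_of_hasSecLoc A'.loc)),
      fun V f hf => ?_⟩
    obtain ⟨s, hs⟩ := hf.1
    obtain ⟨s', hs'⟩ := hf.2
    have hA : ∀ (M : AlgSt.SpQuotObj Scheme.fppfPrecoverage G (AlgSt.trivGAction G))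
        (σ : (AlgSp.yon S).obj V ⟶ M.P.left) (k : V ⟶ M.base), σ ≫ M.π.left = (AlgSp.yon S).map k →
        σ ≫ M.φ.left = (AlgSp.yon S).map k ≫ M.b := fun M σ k hk => by
      rw [toUnit_unique M.φ (toUnit M.P), ← hk, Category.assoc]
      show σ ≫ M.P.hom = σ ≫ M.π.left ≫ M.b
      exact congrArg (σ ≫ ·) (Over.w M.π).symm
    have hw : (AlgSp.yon S).map b.hom ≫ A'.b = A.b := by
      apply yEquiv.injective
      exact (((AlgSp.J S).uliftYonedaEquiv_naturality A'.b b.hom).symm).trans b.map_sec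
    let a : (AlgSt.ofSp (𝟙_ (Over B)).left).obj := Section.el V (yEquiv ((AlgSp.yon S).map f ≫ A.b))
    have ha : StkBG.pt a = (AlgSp.yon S).map f ≫ A.b := Equiv.symm_apply_apply _ _
    have e₁ : s ≫ A.φ.left = StkBG.pt a := (hA A s f hs).trans ha.symm
    have e₂ : s' ≫ A'.φ.left = StkBG.pt a := by
      rw [hA A' s' _ hs', ha, ← hw, Functor.map_comp, Category.assoc]
    let φ := StkBG.homOfPt (aX := AlgSt.trivGAction G) (a := a) A s e₁
    let ψ := StkBG.homOfPt (aX := AlgSt.trivGAction G) (a := a) A' s' e₂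
    have hφ : φ.base = f := Section.base_homOfPt (aX := AlgSt.trivGAction G) (a := a) A s e₁ f hs
    have hψ : ψ.base = f ≫ b.hom :=
      Section.base_homOfPt (aX := AlgSt.trivGAction G) (a := a) A' s' e₂ (f ≫ b.hom) hs'
    refine ⟨StkBG.trivAt (AlgSt.trivGAction G) a, φ, ψ,
      IsHomLift.of_fac' _ _ _ rfl rfl ?_, IsHomLift.of_fac' _ _ _ rfl h₂ ?_, ?_⟩
    · show φ.base = _
      rw [hφ]; simp
    · show ψ.base = _
      rw [hψ]
      refine congrArg (f ≫ ·) ?_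
      refine eb.trans ?_
      simp
    · refine Stk.EltObj.hom_ext ?_
      show φ.base ≫ b.hom = ψ.base
      rw [hφ, hψ]

open Groth.AlgStBasic

/-- A morphism of algebraic stacks is a gerbe iff it is a classifying stack after an fppf covering of the target. -/
theorem isGerbeOver_iff_exists_cover {𝒳 𝒴 : AlgSt.Cat S}
    (h𝒳 : AlgSt.IsAlgStack Scheme.fppfPrecoverage 𝒳) (h𝒴 : AlgSt.IsAlgStack Scheme.fppfPrecoverage 𝒴)
    (π : 𝒳 ⥤ᵇ 𝒴) :
    Gerb.IsGerbeOver (QuotSh.J Scheme.fppfPrecoverage S) π ↔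
      ∃ (U : AlgSp.Space S) (G : Over U.obj) (_ : GrpObj G),
        AlgSp.IsAlgSpace G.left ∧ AlgSp.LocP @Flat G.hom ∧ AlgSp.LocP @LocallyOfFinitePresentation G.hom ∧
        ∃ u : AlgSt.ofSp U.obj ⥤ᵇ 𝒴,
          AlgSt.RepByAlgSpWith (AlgSp.LocP @Flat) u ∧
          AlgSt.RepByAlgSpWith (AlgSp.LocP @LocallyOfFinitePresentation) u ∧
          AlgSt.RepByAlgSpWith AlgSp.IsSurjectiveMor u ∧
          ∃ e : AlgSt.SpBG Scheme.fppfPrecoverage G ⥤ᵇ FibCat.fp u π,
            FibCat.IsEquivOver e ∧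
            Nonempty (BasedFunctor.comp e (FibCat.fpFst u π) ≅
              W4stkstmgerbes.spQuotToBase Scheme.fppfPrecoverage G (AlgSt.trivGAction G)) := by
  constructor
  · intro hπ
    obtain ⟨W, x, hx, hxs⟩ := h𝒳.atlas
    let U : AlgSp.Space S := ⟨(AlgSp.yon S).obj W, AlgSp.IsAlgSpace.yon_obj W⟩
    have hU := isAlgStack_ofSp (S := S) U.property
    let x' : AlgSt.ofSp U.obj ⥤ᵇ 𝒳 := BasedFunctor.comp (AlgSt.toOverCat W) x
    have hx' : AlgSt.RepByAlgSpWith (AlgSp.LocP @Smooth) x' :=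
      (repWith_precomp_equiv (isEquivOver_toOverCat W) x).2 hx
    have hxs' : AlgSt.RepByAlgSpWith AlgSp.IsSurjectiveMor x' :=
      (repWith_precomp_equiv (isEquivOver_toOverCat W) x).2 hxs
    let u : AlgSt.ofSp U.obj ⥤ᵇ 𝒴 := BasedFunctor.comp x' π
    have hu₁ : AlgSt.RepByAlgSp1 u := repByAlgSp1_of_comp h𝒴.isStack.1 isFibGrpd_selfOver
      (f := u) (g := FibCat.toSelf 𝒴)
      (repByAlgSp1_of_repByAlgSp ⟨U, _, isEquivOver_id _⟩ repByAlgSp_selfOver _) h𝒴.diag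
    obtain ⟨hπs, hπ₁, hπ₂⟩ := surjective_flat_lfp_of_isGerbeOver h𝒳 h𝒴 hπ
    have hfl : IsFL u :=
      IsFL.comp hU h𝒳 h𝒴 (isFL_of_repWith_smooth hU h𝒳 hx') ⟨hπ₁, hπ₂⟩
    obtain ⟨hu₂, hu₃⟩ := hfl.repWith hU h𝒴 hu₁
    have hus : AlgSt.RepByAlgSpWith AlgSp.IsSurjectiveMor u := by
      refine (isSurjective_iff_repWith hU.isStack.1 h𝒴.isStack.1 hu₁).1 ?_
      have hs := (isSurjective_iff_repWith hU.isStack.1 h𝒳.isStack.1 (repWith_repByAlgSp1 hxs')).2 hxs'
      exact fun q => by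
        obtain ⟨q', rfl⟩ := hπs q
        obtain ⟨q'', rfl⟩ := hs q'
        exact ⟨q'', Groth.AlgStBasic.map_comp _ _ _⟩
    have hP := isAlgStack_fp h𝒴.isStack h𝒴.diag hU h𝒳 u π
    have hg : Gerb.IsGerbeOver (QuotSh.J Scheme.fppfPrecoverage S) (FibCat.fpFst u π) :=
      isGerbeOver_baseChange hP.isStack.1 h𝒳.isStack.1 h𝒴.isStack.1 hU.isStack.1 π u (FibCat.fpFst u π)
        (FibCat.fpSnd u π) (FibCat.fpIso u π)
        (isEquivOver_of_iso (fpIsoMk (Iso.refl _) (Iso.refl _) (fun z => by simp)) (isEquivOver_id _)) hπ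
    obtain ⟨G, iG, hG₁, hG₂, hG₃, e, he, hei⟩ := Section.exists_equiv_spBG hP (FibCat.fpFst u π) hg
      (FibCat.fpLift (BasedFunctor.id _) x' (Iso.refl _)) (Iso.refl _)
    exact ⟨U, G, iG, hG₁, hG₂, hG₃, u, hu₂, hu₃, hus, e, he, hei⟩
  · rintro ⟨U, G, iG, -, -, -, u, hu₂, hu₃, hus, e, he, ⟨α⟩⟩
    have hU := isAlgStack_ofSp (S := S) U.property
    have hP := isAlgStack_fp h𝒴.isStack h𝒴.diag hU h𝒳 u π
    obtain ⟨e', ⟨a⟩, ⟨b⟩⟩ := he
    have he' : FibCat.IsEquivOver e' := ⟨e, ⟨b⟩, ⟨a⟩⟩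
    have hG : FibCat.IsFibGrpd (AlgSt.SpBG Scheme.fppfPrecoverage G).p :=
      (QuotStk.isStack_spQuotSt G (AlgSt.trivGAction G)).1
    have hc := isGerbeOver_comp hP.isStack.1 hG e'
      (W4stkstmgerbes.spQuotToBase Scheme.fppfPrecoverage G (AlgSt.trivGAction G))
      (isGerbeOver_of_isEquivOver (J := QuotSh.J Scheme.fppfPrecoverage S) hG he') isGerbeOver_spQuotToBase
    have hg : Gerb.IsGerbeOver (QuotSh.J Scheme.fppfPrecoverage S) (FibCat.fpFst u π) :=
      isGerbeOver_of_iso ((whiskerLeftIso e' α.symm).trans (whiskerRightIso b (FibCat.fpFst u π))) hc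
    obtain ⟨k₁, k₂⟩ := isFL_of_repWith hU h𝒴 hu₂ hu₃
    exact isGerbeOver_descent hP.isStack.1 h𝒳.isStack.1 h𝒴.isStack.1 hU.isStack.1 π u (FibCat.fpFst u π)
      (FibCat.fpSnd u π) (FibCat.fpIso u π)
      (isEquivOver_of_iso (fpIsoMk (Iso.refl _) (Iso.refl _) (fun z => by simp)) (isEquivOver_id _))
      (locSurjObj_of_surjective_flat_lfp hU h𝒴
        ((isSurjective_iff_repWith hU.isStack.1 h𝒴.isStack.1 (repWith_repByAlgSp1 hus)).2 hus) k₁ k₂) hg

end Groth.StkGerb
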