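import Groth.Agent.StkGerb.Section.SecEquiv
import Groth.Agent.StkGerb.GerbeFL
import Groth.Agent.AlgStBasic.LocalLift
import Groth.Agent.AlgStBasic.Permanence
import Groth.Agent.AlgStBasic.StUniv

/-!
# The automorphism group of a section of a gerbe over an algebraic space
-/

set_option autoImplicit false
set_option backward.isDefEq.respectTransparency false
set_option backward.isDefEq.respectTransparency.types false

universe u

open CategoryTheory CategoryTheory.Limits AlgebraicGeometry Opposite MonoidalCategory CartesianMonoidalCategory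
open CategoryTheory.MonObj
open scoped CategoryTheory.Obj

namespace Groth.StkGerb.Section

open Groth.StkBase Groth.AlgStBasic

noncomputable section

variable {S : Scheme.{u}}

theorem secOf_of_obj_eq {B : AlgSp.Sp S} {P : (Over S)ᵒᵖ ⥤ Type (u + 1)}
    (Ψ : Stk.ofPsh P ⥤ᵇ AlgSt.ofSp B) (a : (Stk.ofPsh P).obj) (w : B.obj.obj (op a.base))
    (h : Ψ.obj a = el a.base w) : secOf Ψ a = w := by
  have key : ∀ (c : (AlgSt.ofSp B).obj) (hc : a.base = c.base), c = el a.base w →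
      B.obj.map (eqToHom hc).op c.sec = w := by
    rintro c hc rfl
    exact map_op_id B.obj _ rfl _
  exact key (Ψ.obj a) (Ψ.w_obj a).symm h

theorem locP_autV {P : MorphismProperty Scheme.{u}} [Groth.AlgSpBasic.EtaleLocal P] {U : AlgSp.Space S} (D : SecData S U.obj)
    (hD : AlgSt.RepByAlgSpWith (AlgSp.LocP P) D.x) :
    AlgSp.IsAlgSpace (GG D).left ∧ AlgSp.LocP P (GG D).hom := by
  have hU := isAlgStack_ofSp U.property
  obtain ⟨V, a, e, he, ⟨β⟩, ha⟩ := exists_map_of_repWith hU.isStack.1 D.fib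
    stableBaseChange_locP descendsAlongAtlas_locP hD U D.x
  obtain ⟨E, hE, hE'⟩ := exists_equiv_autPsh D
  obtain ⟨e', ⟨i₁⟩, ⟨i₂⟩⟩ := he
  let Φ : Stk.ofPsh (autPsh D) ⥤ᵇ Stk.ofPsh V.obj.obj := BasedFunctor.comp E e'
  have hΦ : FibCat.IsEquivOver Φ := isEquivOver_comp hE ⟨e, ⟨i₂⟩, ⟨i₁⟩⟩
  have := isIso_pshMapOf hΦ
  let f : (GG D).left ⟶ V.obj := ⟨pshMapOf Φ⟩
  have : IsIso f := by
    refine ⟨⟨inv (pshMapOf Φ)⟩, ?_, ?_⟩ <;> ext : 1 <;> simp [f]
  obtain ⟨j⟩ : Nonempty (BasedFunctor.comp E (FibCat.fpFst D.x D.x) ≅ Stk.ofPshMap (autV D).hom) :=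
    nonempty_iso_of_secOf U.obj.obj fun z => (secOf_of_obj_eq _ z z.sec.v (hE' z)).trans
      (secOf_of_obj_eq (Stk.ofPshMap (autV D).hom) z z.sec.v rfl).symm
  have hf : f ≫ a.hom = (GG D).hom := by
    ext : 1
    show pshMapOf Φ ≫ a.hom.hom = (autV D).hom
    rw [← pshMapOf_ofPshMap a.hom.hom, ← pshMapOf_comp, ← pshMapOf_ofPshMap (autV D).hom]
    exact pshMapOf_eq_of_iso ((whiskerLeftIso Φ β.symm).trans
      ((whiskerLeftIso E (whiskerRightIso i₂ (FibCat.fpFst D.x D.x))).trans j))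
  have hA : AlgSp.IsAlgSpace (GG D).left := V.property.of_iso (asIso f).symm
  refine ⟨hA, ?_⟩
  exact stableBaseChange_locP V.property U.property hA U.property a.hom (𝟙 U.obj) (GG D).hom f
    (IsPullback.of_horiz_isIso ⟨by rw [hf, Category.comp_id]⟩) ha

/-- A gerbe over a space with a section is the classifying stack of its automorphism group. -/
theorem exists_equiv_spBG {𝒳 : AlgSt.Cat S} (h𝒳 : AlgSt.IsAlgStack Scheme.fppfPrecoverage 𝒳)
    {U : AlgSp.Space S} (π : 𝒳 ⥤ᵇ AlgSt.ofSp U.obj)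
    (hπ : Gerb.IsGerbeOver (QuotSh.J Scheme.fppfPrecoverage S) π)
    (x : AlgSt.ofSp U.obj ⥤ᵇ 𝒳) (ex : BasedFunctor.comp x π ≅ BasedFunctor.id (AlgSt.ofSp U.obj)) :
    ∃ (G : Over U.obj) (_ : GrpObj G),
      AlgSp.IsAlgSpace G.left ∧ AlgSp.LocP @Flat G.hom ∧ AlgSp.LocP @LocallyOfFinitePresentation G.hom ∧
      ∃ e : AlgSt.SpBG Scheme.fppfPrecoverage G ⥤ᵇ 𝒳,
        FibCat.IsEquivOver e ∧
        Nonempty (BasedFunctor.comp e π ≅
          W4stkstmgerbes.spQuotToBase Scheme.fppfPrecoverage G (AlgSt.trivGAction G)) := by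
  let D : SecData S U.obj := ⟨𝒳, h𝒳.isStack, π, x, ex⟩
  obtain ⟨h₁, h₂, -⟩ := repWith_diag_of_isGerbeOver h𝒳 (isAlgStack_ofSp U.property) hπ
  obtain ⟨hA, hf⟩ := locP_autV D (repWith_section_of_diag x ex h₁)
  obtain ⟨-, hl⟩ := locP_autV D (repWith_section_of_diag x ex h₂)
  refine ⟨GG D, inferInstance, hA, hf, hl, ?_⟩
  obtain ⟨e, ⟨a⟩, ⟨b⟩⟩ := isEquivOver_toBG (D := D) hπ.2
  obtain ⟨c⟩ := nonempty_comp_toBG_iso (D := D) hπ.2
  have hinv : FibCat.IsEquivOver e := ⟨toBG (D := D) hπ.2, ⟨b⟩, ⟨a⟩⟩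
  exact ⟨e, hinv, ⟨(whiskerLeftIso e c.symm).trans
    (whiskerRightIso b (W4stkstmgerbes.spQuotToBase Scheme.fppfPrecoverage (GG D)
      (AlgSt.trivGAction (GG D))))⟩⟩

end

end Groth.StkGerb.Section
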