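import Groth.Agent.StkGerb.Section.SchemeGroup
import Groth.Agent.StkBase.Descent2
import Groth.Agent.AlgStBasic.RepCriteria
import Groth.Agent.ArtinAtlas.QuotAtlas

/-!
# The classifying stack of the stabilizer of a point over the base, as a monomorphism
-/

set_option autoImplicit false
set_option backward.isDefEq.respectTransparency false
set_option backward.isDefEq.respectTransparency.types false
set_option synthInstance.maxHeartbeats 400000

universe u

open CategoryTheory CategoryTheory.Limits AlgebraicGeometry Opposite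
open CategoryTheory.MonObj
open scoped CategoryTheory.Obj

namespace Groth.StkGerb.Section

open Groth.StkBase

noncomputable section

variable {S : Scheme.{u}} {𝒳 : AlgSt.Cat S}

section LocIso

variable (hX : FibCat.IsFibGrpd 𝒳.p) (x : FibCat.overCat (Over.mk (𝟙 S)) ⥤ᵇ 𝒳)

/-- The morphisms over which an object is isomorphic to the point. -/
def locSieve (ξ : 𝒳.obj) : Sieve (𝒳.p.obj ξ) where
  arrows V f := ∃ (t : (FibCat.overCat (Over.mk (𝟙 S))).obj) (g : x.obj t ⟶ ξ), 𝒳.p.IsHomLift f g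
  downward_closed := by
    rintro V W f ⟨t, g, hg⟩ h
    obtain ⟨hd, hc, hp⟩ := (isHomLift_iff_eqToHom _ _).1 hg
    have e : t.left = V := (x.w_obj t).symm.trans hd
    let h' : W ⟶ t.left := h ≫ eqToHom e.symm
    let a : Over.mk (h' ≫ t.hom) ⟶ t := Over.homMk h' rfl
    refine ⟨Over.mk (h' ≫ t.hom), x.map a ≫ g, IsHomLift.of_fac' _ _ _ (x.w_obj _) rfl ?_⟩
    rw [Functor.map_comp, map_map, hp]
    simp [a, h', overCat_map]

/-- The objects locally isomorphic to the point. -/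
def LocIso (ξ : 𝒳.obj) : Prop := locSieve x ξ ∈ AlgSp.J S (𝒳.p.obj ξ)

include hX in
theorem locSieve_pullback_le {w₁ ξ : 𝒳.obj} (l : w₁ ⟶ ξ) :
    (locSieve x ξ).pullback (𝒳.p.map l) ≤ locSieve x w₁ := by
  rintro V f ⟨t, g, hg⟩
  obtain ⟨hd, hc, hp⟩ := (isHomLift_iff_eqToHom _ _).1 hg
  have hw : (eqToHom hd ≫ f) ≫ 𝒳.p.map l = 𝒳.p.map g := by simp [hp]
  exact ⟨t, factor hX l g (eqToHom hd ≫ f) hw, IsHomLift.of_fac' _ _ _ hd rfl (by
    rw [factor_map]
    simp)⟩

include hX in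
theorem locIso_of_hom {w₁ ξ : 𝒳.obj} (l : w₁ ⟶ ξ) (h : LocIso x ξ) : LocIso x w₁ :=
  GrothendieckTopology.superset_covering _ (locSieve_pullback_le hX x l)
    ((AlgSp.J S).pullback_stable _ h)

theorem locIso_point (t : (FibCat.overCat (Over.mk (𝟙 S))).obj) : LocIso x (x.obj t) := by
  refine GrothendieckTopology.covering_of_eq_top _ (Sieve.id_mem_iff_eq_top.1 ⟨t, 𝟙 _, ?_⟩)
  exact IsHomLift.id rfl

theorem locIso_of_cover {U : Over S} (R : Sieve U) (hR : R ∈ AlgSp.J S U) (ξ : 𝒳.obj)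
    (hξ : 𝒳.p.obj ξ = U)
    (h : ∀ ⦃V : Over S⦄ (f : V ⟶ U), R f → ∀ (y : 𝒳.obj) (φ : y ⟶ ξ), 𝒳.p.IsHomLift f φ → LocIso x y)
    (hX : FibCat.IsFibGrpd 𝒳.p) : LocIso x ξ := by
  subst hξ
  refine (AlgSp.J S).transitive hR _ fun V f hf => ?_
  obtain ⟨y, φ, hy, hφ⟩ := exists_lift' hX (x := ξ) f
  subst hy
  have hf' : 𝒳.p.map φ = f := hφ.trans (Category.id_comp _)
  subst hf'
  refine GrothendieckTopology.superset_covering _ ?_ (h _ hf y φ inferInstance)
  rintro W k ⟨t, g, hg⟩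
  obtain ⟨hd, hc, hp⟩ := (isHomLift_iff_eqToHom _ _).1 hg
  exact ⟨t, g ≫ φ, IsHomLift.of_fac' _ _ _ hd rfl (by rw [Functor.map_comp, hp]; simp)⟩

/-- The substack of objects locally isomorphic to the point. -/
abbrev locStack : AlgSt.Cat S := AlgSt.fullSub 𝒳 (LocIso x)

theorem isStack_locStack (h : Stk.IsStack (AlgSp.J S) 𝒳) : Stk.IsStack (AlgSp.J S) (locStack x) :=
  isStack_fullSub (AlgSp.J S) h (LocIso x)
    (fun y z l hz => ⟨y, Iso.refl y, locIso_of_hom h.1 x l hz, isVert_id y⟩)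
    (fun U R hR ξ hξ hl => ⟨ξ, Iso.refl ξ, locIso_of_cover x R hR ξ hξ (fun V f hf y φ hφ => by
      obtain ⟨y', e, hQ, -⟩ := hl f hf y φ hφ
      exact locIso_of_hom h.1 x e.hom hQ) h.1, isVert_id ξ⟩)

/-- The structure functor of the substack. -/
def locProj : locStack x ⥤ᵇ FibCat.overCat (Over.mk (𝟙 S)) where
  toFunctor :=
    { obj := fun ξ => Over.mk (Over.mkIdTerminal.from ((locStack x).p.obj ξ))
      map := fun {ξ₁ ξ₂} f => Over.homMk ((locStack x).p.map f) (Over.mkIdTerminal.hom_ext _ _)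
      map_id := fun ξ => Over.OverMorphism.ext ((locStack x).p.map_id ξ)
      map_comp := fun f g => Over.OverMorphism.ext ((locStack x).p.map_comp f g) }
  w := rfl

/-- The point, in the substack. -/
def locPoint : FibCat.overCat (Over.mk (𝟙 S)) ⥤ᵇ locStack x where
  toFunctor := ObjectProperty.lift _ x.toFunctor (locIso_point x)
  w := x.w

theorem locSurjHom_locProj : Gerb.LocSurjHom (AlgSp.J S) (locProj x) := by
  intro ξ w₁ b hb
  obtain ⟨hd, hc, hp⟩ := (isHomLift_iff_eqToHom _ _).1 hb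
  have e : (locStack x).p.obj w₁ = (locStack x).p.obj ξ := hc
  refine ⟨locSieve x ξ.obj ⊓ (locSieve x w₁.obj).pullback (eqToHom e.symm),
    (AlgSp.J S).intersection_covering ξ.property ((AlgSp.J S).pullback_stable _ w₁.property), ?_⟩
  rintro V f ⟨⟨t, g, hg⟩, ⟨t', g', hg'⟩⟩
  obtain ⟨h₁, hc₁, hg₁⟩ := (isHomLift_iff_eqToHom _ _).1 hg
  obtain ⟨h₂, hc₂, hg₂⟩ := (isHomLift_iff_eqToHom _ _).1 hg'
  have et : t.left = t'.left := (x.w_obj t).symm.trans (h₁.trans (h₂.symm.trans (x.w_obj t')))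
  let k : t ⟶ t' := Over.homMk (eqToHom et) (Over.mkIdTerminal.hom_ext _ _)
  refine ⟨(locPoint x).obj t, ⟨g⟩, ⟨x.map k ≫ g'⟩, ?_, ?_, ?_⟩
  · exact IsHomLift.of_fac' _ _ _ h₁ rfl hg₁
  · refine IsHomLift.of_fac' _ _ _ h₁ e ?_
    change 𝒳.p.map (x.map k ≫ g') = _
    rw [Functor.map_comp, map_map, hg₂]
    simp [k, overCat_map]
  · refine Over.OverMorphism.ext ?_
    change 𝒳.p.map g ≫ b.left = 𝒳.p.map (x.map k ≫ g')
    have hb' : b.left = eqToHom e.symm := by
      change (FibCat.overCat (Over.mk (𝟙 S))).p.map b = _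
      rw [hp]
      simp
    rw [hb', Functor.map_comp, map_map, hg₁, hg₂]
    simp [k, overCat_map]

theorem nonempty_locPoint_locProj (hX : FibCat.IsFibGrpd 𝒳.p) :
    Nonempty (BasedFunctor.comp (locPoint x) (locProj x) ≅ BasedFunctor.id _) :=
  (nonempty_overIso_iff (isFibGrpd_overCat _) _ _).2
    ⟨Over.homMk (eqToHom (show (locStack x).p.obj ((locPoint x).obj (idObj (Over.mk (𝟙 S)))) = Over.mk (𝟙 S) from x.w_obj (idObj (Over.mk (𝟙 S))))) (Over.mkIdTerminal.hom_ext _ _),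
      ⟨x.w_obj (idObj (Over.mk (𝟙 S))), rfl⟩⟩

/-- Automorphisms in the substack. -/
def autLoc (y : (locStack x).obj) : Gerb.AutO y.obj ≃* Gerb.AutO y where
  toFun α :=
    { hom := ⟨⟨α.hom.1⟩, (isHomLift_iff_eqToHom (p := (locStack x).p) _ _).2 ⟨rfl, rfl, (isVert_of_isHomLift (p := 𝒳.p) α.hom.2).map_eq.trans (by simp)⟩⟩
      inv := ⟨⟨α.inv.1⟩, (isHomLift_iff_eqToHom (p := (locStack x).p) _ _).2 ⟨rfl, rfl, (isVert_of_isHomLift (p := 𝒳.p) α.inv.2).map_eq.trans (by simp)⟩⟩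
      hom_inv_id := Functor.Fiber.hom_ext (InducedCategory.hom_ext (congrArg Subtype.val α.hom_inv_id))
      inv_hom_id := Functor.Fiber.hom_ext (InducedCategory.hom_ext (congrArg Subtype.val α.inv_hom_id)) }
  invFun α := Gerb.autMap (AlgSt.subIncl 𝒳 (LocIso x)) y α
  left_inv α := Band.autO_ext rfl
  right_inv α := Band.autO_ext rfl
  map_mul' α β := Band.autO_ext rfl

/-- The group represents the automorphisms of the point in the substack. -/
def autRepLoc {A : (Over (Over.mk (𝟙 S)))ᵒᵖ ⥤ GrpCat.{u}} (r : Gerb.AutRep x A) :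
    Gerb.AutRep (locPoint x) A where
  iso T := (r.iso T).trans (autLoc x ((locPoint x).obj T))
  natural h a := InducedCategory.hom_ext (r.natural h a)

end LocIso

/-- The classifying stack of the stabilizer of a point over the base maps monomorphically. -/
theorem exists_mono_bg (h𝒳 : AlgSt.IsAlgStack Scheme.fppfPrecoverage 𝒳)
    (x : FibCat.overCat (Over.mk (𝟙 S)) ⥤ᵇ 𝒳)
    (G : Over S) [GrpObj G] [IsAffineHom G.hom] [Flat G.hom] [LocallyOfFinitePresentation G.hom]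
    (r : Gerb.AutRep x (Gerb.ptsGrp (Over.mk (𝟙 S)) G)) :
    ∃ ι' : AlgSt.BG Scheme.fppfPrecoverage G ⥤ᵇ 𝒳,
      AlgSt.IsMono ι' ∧
      Nonempty (BasedFunctor.comp (AlgSt.quotMap Scheme.fppfPrecoverage G (AlgSt.trivAction G)) ι' ≅
        BasedFunctor.comp (AlgSt.toOverCat (Over.mk (𝟙 S))) x) := by
  obtain ⟨e₀⟩ := nonempty_locPoint_locProj x h𝒳.isStack.1
  obtain ⟨I, hI, ⟨ε⟩⟩ := exists_equiv_of_section (isStack_locStack x h𝒳.isStack) e₀
    (autRepLoc x r) (locSurjHom_locProj x)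
  have := full_of_isEquivOver hI
  have := faithful_of_isEquivOver hI
  let j : locStack x ⥤ᵇ 𝒳 := AlgSt.subIncl 𝒳 (LocIso x)
  have : j.toFunctor.Full := inferInstanceAs (ObjectProperty.ι _).Full
  have : j.toFunctor.Faithful := inferInstanceAs (ObjectProperty.ι _).Faithful
  have : (BasedFunctor.comp I j).toFunctor.Full := inferInstanceAs (I.toFunctor ⋙ j.toFunctor).Full
  have : (BasedFunctor.comp I j).toFunctor.Faithful := inferInstanceAs (I.toFunctor ⋙ j.toFunctor).Faithful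
  exact ⟨BasedFunctor.comp I j,
    Groth.AlgStBasic.isMono_of_fullyFaithful (Groth.ArtinAtlas.isAlgStack_quotSt (AlgSt.trivAction G)) h𝒳 _,
    ⟨whiskerRightIso ε j⟩⟩

end

end Groth.StkGerb.Section
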