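import Groth.Agent.StkGerb.Section.SecTorsor
import Groth.Agent.StkGerb.Glue
import Groth.Agent.StkBG.SpQuotMap
import Groth.Agent.QuotStk.SpQuotStack
import Groth.Prelude.Def_W4stkstmgerbesQuotBase

/-!
# A gerbe with a section is the classifying stack of the automorphism group of the section
-/

set_option autoImplicit false
set_option backward.isDefEq.respectTransparency false
set_option backward.isDefEq.respectTransparency.types false

universe u

open CategoryTheory CategoryTheory.Limits AlgebraicGeometry Opposite MonoidalCategory CartesianMonoidalCategory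
open CategoryTheory.MonObj
open scoped CategoryTheory.Obj

namespace Groth.StkGerb.Section

open Groth.StkBase
open Groth.AlgSpBasic (yEquiv)

noncomputable section

variable {S : Scheme.{u}} {B : AlgSp.Sp S} {D : SecData S B}

local notation "𝒢" => AlgSt.SpBG Scheme.fppfPrecoverage (GG D)

section Elem

variable {ξ ξ' : D.X.obj}

/-- A map of sheaves of morphisms, evaluated. -/
abbrev tPt (t : PP D ξ ⟶ PP D ξ') {T : Over S} (q : PElt D ξ T) : PElt D ξ' T :=
  t.left.hom.app (op T) q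

theorem tPt_v (t : PP D ξ ⟶ PP D ξ') {T : Over S} (q : PElt D ξ T) : (tPt t q).v = q.v :=
  w_app t (T := T) q

theorem tPt_map (t : PP D ξ ⟶ PP D ξ') {T' T : Over S} (k : T' ⟶ T) (q : PElt D ξ T) :
    (homPsh D ξ').map k.op (tPt t q) = tPt t ((homPsh D ξ).map k.op q) :=
  (NatTrans.naturality_apply t.left.hom k.op q).symm

/-- The image of a morphism out of the section. -/
def tVal (t : PP D ξ ⟶ PP D ξ') {T : Over S} {v : B.obj.obj (op T)} (χ : D.x.obj (el T v) ⟶ ξ) :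
    D.x.obj (el T v) ⟶ ξ' :=
  (tPt t ⟨v, χ⟩).at v (tPt_v t _)

theorem tVal_map (t : PP D ξ ⟶ PP D ξ') {T' T : Over S} {v : B.obj.obj (op T)}
    {v' : B.obj.obj (op T')} (g : el T' v' ⟶ el T v) (χ : D.x.obj (el T v) ⟶ ξ) :
    tVal t (D.x.map g ≫ χ) = D.x.map g ≫ tVal t χ := by
  have hv : B.obj.map g.hom.op v = v' := g.map_sec
  have hq : (homPsh D ξ).map g.hom.op ⟨v, χ⟩ = ⟨v', D.x.map g ≫ χ⟩ := by
    refine PElt.ext' hv ?_
    show D.x.map (castEl hv) ≫ D.x.map (hat g.hom v) ≫ χ = _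
    rw [← Category.assoc, xmap_eq (castEl hv) (hat g.hom v) g (Category.id_comp _)]
  exact (PElt.map_at g.hom _ _ ((tPt_map t g.hom _).trans (congrArg (tPt t) hq)) v (tPt_v t _) v'
    (tPt_v t _) g rfl).symm

theorem pVal_tPt (t : PP D ξ ⟶ PP D ξ') {Z : Over B} (p : Z ⟶ PP D ξ) (T : Over S)
    (e : Z.left.obj.obj (op T)) : pVal (p ≫ t) T e = tVal t (pVal p T e) := by
  have h : (⟨_, pVal p T e⟩ : PElt D ξ T) = pPt p T e :=
    (PElt.ext' (pPt_v p T e) rfl).symm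
  exact PElt.at_congr (congrArg (tPt t) h.symm) _ _ _

variable (t : PP D ξ ⟶ PP D ξ') (ht : (secAct D ξ).act ≫ t = (GG D ◁ t) ≫ (secAct D ξ').act)

include ht in
theorem smul_comp_hom {Z : Over B} (g : Z ⟶ GG D) (p : Z ⟶ PP D ξ) :
    smul g p ≫ t = smul g (p ≫ t) := by
  have h := congrArg (lift g p ≫ ·) ht
  simp only [secAct_act, ← Category.assoc, lift_actMap] at h
  rw [h, lift_whiskerLeft, lift_actMap]

theorem exists_point {T : Over S} (v : B.obj.obj (op T)) (α : Gerb.AutO (D.x.obj (el T v)))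
    (χ : D.x.obj (el T v) ⟶ ξ) :
    ∃ (Z : Over B) (g : Z ⟶ GG D) (p : Z ⟶ PP D ξ) (e : Z.left.obj.obj (op T))
      (h : v = Z.hom.hom.app (op T) e),
      gVal g T e = Band.res D.fib (D.x.map (castEl h)) α ∧ pVal p T e = D.x.map (castEl h) ≫ χ := by
  let Z : Over B := Over.mk (yEquiv.symm v : (AlgSp.yon S).obj T ⟶ B)
  have hz : ∀ (T' : Over S) (e : Z.left.obj.obj (op T')),
      B.obj.map (ULift.down e).op v = Z.hom.hom.app (op T') e := fun T' e =>
    (GrothendieckTopology.uliftYonedaEquiv_symm_app_apply _ _ _ _).symm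
  let m : ∀ (T' : Over S) (e : Z.left.obj.obj (op T')), elZ e ⟶ el T v :=
    fun T' e => eltHom (ULift.down e) (hz T' e)
  have hm : ∀ {T' T'' : Over S} (k : T' ⟶ T'') (e : Z.left.obj.obj (op T'')),
      (rhat k e).hom ≫ (m T'' e).hom = (m T' (Z.left.obj.map k.op e)).hom := fun _ _ => rfl
  obtain ⟨p, hp⟩ := exists_pHom (fun T' e => D.x.map (m T' e) ≫ χ) fun T' T'' k e => by
    rw [← Category.assoc, xmap_eq _ _ _ (hm k e)]
  let s : gFam D Z := ⟨fun T' e => Band.res D.fib (D.x.map (m T' e)) α,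
    fun T' T'' k e => res_xmap _ _ _ (hm k e) α⟩
  let e₀ : Z.left.obj.obj (op T) := ⟨𝟙 T⟩
  have h₀ : v = Z.hom.hom.app (op T) e₀ := (map_op_id B.obj (𝟙 T) rfl v).symm.trans (hz T e₀)
  have hm₀ : m T e₀ = castEl h₀ := Stk.EltObj.hom_ext rfl
  refine ⟨Z, gHom s, p, e₀, h₀, ?_, ?_⟩
  · rw [← hm₀]
    exact GElt.at_mk _ (s.1 T e₀) _
  · rw [hp, hm₀]

include ht in
theorem tVal_autO {T : Over S} {v : B.obj.obj (op T)} (α : Gerb.AutO (D.x.obj (el T v)))
    (χ : D.x.obj (el T v) ⟶ ξ) : tVal t (α.hom.1 ≫ χ) = α.hom.1 ≫ tVal t χ := by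
  obtain ⟨Z, g, p, e, h, hg, hp⟩ := exists_point v α⁻¹ χ
  have h₁ := pVal_tPt t (smul g p) T e
  rw [smul_comp_hom t ht, pVal_smul, pVal_smul, pVal_tPt, hg, hp, ← map_inv, inv_inv, ← Category.assoc,
    Band.res_spec D.fib, Category.assoc, tVal_map, tVal_map, ← Category.assoc,
    Band.res_spec D.fib, Category.assoc] at h₁
  have : IsIso (D.x.map (castEl h)) := (isVert_map (F := D.x) (φ := castEl h) ⟨rfl, rfl⟩).isIso D.fib
  exact ((cancel_epi _).1 h₁).symm

include ht in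
theorem tVal_comp {T' T : Over S} {v : B.obj.obj (op T)} {v' : B.obj.obj (op T')}
    (j : D.x.obj (el T' v') ⟶ D.x.obj (el T v)) (χ : D.x.obj (el T v) ⟶ ξ) :
    tVal t (j ≫ χ) = j ≫ tVal t χ := by
  let k : T' ⟶ T := kOf j ≫ eqToHom (D.x.w_obj (el T v))
  have hv : B.obj.map k.op v = v' := by
    have h := map_sec_kOf j
    rw [sec_x, map_op_comp] at h
    exact h
  let g : el T' v' ⟶ el T v := eltHom k hv
  have hp : D.X.p.map j = D.X.p.map (D.x.map g) := by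
    rw [map_map D.x g]
    show _ = eqToHom _ ≫ k ≫ eqToHom _
    simp [k, kOf]
  obtain ⟨i, hi, hi'⟩ := exists_vert_iso_of_lifts D.fib j (D.x.map g) rfl
    (by rw [hp, eqToHom_refl, Category.id_comp])
  obtain ⟨α, hα⟩ := exists_autO D.fib i.hom hi
  rw [← hi', ← hα, Category.assoc, tVal_autO t ht, tVal_map, Category.assoc]

end Elem

theorem hom_ext_of_cover {a b : D.X.obj} {f g : a ⟶ b} (hp : D.X.p.map f = D.X.p.map g)
    (R : Sieve (D.X.p.obj a)) (hR : R ∈ AlgSp.J S _)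
    (h : ∀ ⦃a' : D.X.obj⦄ (l : a' ⟶ a), R (D.X.p.map l) → l ≫ f = l ≫ g) : f = g := by
  obtain ⟨z, φ, hz, hφ⟩ := exists_lift' D.fib (D.X.p.map f)
  let f₀ : a ⟶ z := factor D.fib φ f (eqToHom hz.symm) (by rw [hφ]; simp)
  let g₀ : a ⟶ z := factor D.fib φ g (eqToHom hz.symm) (by rw [hφ, hp]; simp)
  have hf₀ : IsVert D.X.p f₀ := ⟨hz.symm, factor_map D.fib φ f _ _⟩
  have hg₀ : IsVert D.X.p g₀ := ⟨hz.symm, factor_map D.fib φ g _ _⟩
  have hf : f₀ ≫ φ = f := factor_comp D.fib φ f _ _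
  have hg : g₀ ≫ φ = g := factor_comp D.fib φ g _ _
  have e : f₀ = g₀ := by
    refine vert_hom_ext_of_local D.fib R ((isPrestack_of_isStack D.isStack).2 R hR).2 hf₀ hg₀
      fun a' l hl => hom_eq_of_comp_eq D.fib φ ?_ ?_
    · rw [Functor.map_comp, Functor.map_comp, hf₀.map_eq, hg₀.map_eq]
    · rw [Category.assoc, Category.assoc, hf, hg, h l hl]
  rw [← hf, ← hg, e]

theorem exists_local_lift (hπ : Gerb.LocSurjHom (AlgSp.J S) D.π) (ξ : D.X.obj) :
    ∃ R ∈ AlgSp.J S (D.X.p.obj ξ), ∀ ⦃a : D.X.obj⦄ (l : a ⟶ ξ), R (D.X.p.map l) →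
      ∃ (T : Over S) (v : B.obj.obj (op T)) (i : a ≅ D.x.obj (el T v)) (χ : D.x.obj (el T v) ⟶ ξ),
        IsVert D.X.p i.hom ∧ i.hom ≫ χ = l := by
  refine ⟨_, Groth.QuotStk.secSieve_mem_of_hasSecLoc (hasSecLoc_projO hπ ξ), fun a l hl => ?_⟩
  obtain ⟨s, hs⟩ := hl
  let q : PElt D ξ (D.X.p.obj a) := yEquiv s
  have hq : kOf q.χ = D.X.p.map l := by
    have h := congrArg yEquiv hs
    rw [yEquiv, GrothendieckTopology.uliftYonedaEquiv_comp,
      GrothendieckTopology.uliftYonedaEquiv_uliftYoneda_map] at h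
    exact congrArg ULift.down h
  obtain ⟨i, hi, hi'⟩ := exists_vert_iso_of_lifts D.fib l q.χ (D.x.w_obj (el (D.X.p.obj a) q.v)).symm
    (by rw [← hq]; rfl)
  exact ⟨_, q.v, i, q.χ, hi, hi'⟩

theorem exists_hom (hπ : Gerb.LocSurjHom (AlgSp.J S) D.π) {ξ ξ' : D.X.obj} (t : PP D ξ ⟶ PP D ξ')
    (ht : (secAct D ξ).act ≫ t = (GG D ◁ t) ≫ (secAct D ξ').act) (k : D.X.p.obj ξ ⟶ D.X.p.obj ξ')
    (hk : ∀ {T : Over S} {v : B.obj.obj (op T)} (χ : D.x.obj (el T v) ⟶ ξ),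
      kOf (tVal t χ) = kOf χ ≫ k) :
    ∃ f : ξ ⟶ ξ', D.X.p.map f = k ∧
      ∀ {T : Over S} {v : B.obj.obj (op T)} (χ : D.x.obj (el T v) ⟶ ξ), χ ≫ f = tVal t χ := by
  obtain ⟨R, hR, hloc⟩ := exists_local_lift hπ ξ
  choose TT vv ii cc hii hcc using hloc
  obtain ⟨z, φ, hz, hφ⟩ := exists_lift' D.fib k
  let M : ∀ ⦃a : D.X.obj⦄ (l : a ⟶ ξ), R (D.X.p.map l) → (a ⟶ ξ') :=
    fun a l hl => (ii l hl).hom ≫ tVal t (cc l hl)
  have hM : ∀ ⦃a : D.X.obj⦄ (l : a ⟶ ξ) (hl : R (D.X.p.map l)), D.X.p.map (M l hl) = D.X.p.map l ≫ k := by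
    intro a l hl
    have h := hk (cc l hl)
    simp only [kOf, Category.assoc] at h
    rw [Functor.map_comp, (cancel_epi _).1 h, ← Category.assoc, ← Functor.map_comp, hcc]
  have hMc : ∀ ⦃a' a : D.X.obj⦄ (l : a ⟶ ξ) (hl : R (D.X.p.map l)) (j : a' ⟶ a) {T : Over S}
      {v : B.obj.obj (op T)} (i : a' ≅ D.x.obj (el T v)) (χ : D.x.obj (el T v) ⟶ ξ),
      i.hom ≫ χ = j ≫ l → i.hom ≫ tVal t χ = j ≫ M l hl := by
    intro a' a l hl j T v i χ hχ
    have : χ = (i.inv ≫ j ≫ (ii l hl).hom) ≫ cc l hl := by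
      rw [Category.assoc, Category.assoc, hcc, ← hχ, Iso.inv_hom_id_assoc]
    rw [this, tVal_comp t ht]
    simp [M]
  let m : ∀ ⦃a : D.X.obj⦄ (l : a ⟶ ξ), R (D.X.p.map l) → (a ⟶ z) := fun a l hl =>
    factor D.fib φ (M l hl) (D.X.p.map l ≫ eqToHom hz.symm) (by rw [hφ, hM]; simp)
  obtain ⟨f₀, hf₀, hf₀'⟩ := glue_hom D.fib hz.symm R ((isPrestack_of_isStack D.isStack).2 R hR).1 m
    (fun a l hl => factor_map D.fib φ _ _ _) (fun a a' l hl j hjl => by
      refine hom_eq_of_comp_eq D.fib φ ?_ ?_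
      · rw [Functor.map_comp, factor_map, factor_map, Functor.map_comp, Category.assoc]
      · rw [Category.assoc, factor_comp, factor_comp]
        exact (hMc l hl j (ii _ hjl) (cc _ hjl) (hcc _ hjl)).symm)
  have hp : D.X.p.map (f₀ ≫ φ) = k := by
    rw [Functor.map_comp, hf₀.map_eq, hφ]
    simp
  refine ⟨f₀ ≫ φ, hp, fun {T v} χ => ?_⟩
  refine hom_ext_of_cover ?_ _ ((AlgSp.J S).pullback_stable (D.X.p.map χ) hR) fun a l hl => ?_
  · have h := hk χ
    simp only [kOf, Category.assoc] at h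
    rw [(cancel_epi _).1 h, Functor.map_comp, hp]
  · have hl' : R (D.X.p.map (l ≫ χ)) := by rw [Functor.map_comp]; exact hl
    rw [← Category.assoc, ← Category.assoc, hf₀' (l ≫ χ) hl', factor_comp]
    show (ii _ hl').hom ≫ tVal t (cc _ hl') = _
    have : cc _ hl' = ((ii _ hl').inv ≫ l) ≫ χ := by
      rw [Category.assoc]
      exact (Iso.eq_inv_comp _).2 (hcc _ hl')
    rw [this, tVal_comp t ht]
    simp

variable (D) in
/-- Composition with a morphism, on the sheaves of morphisms. -/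
def postO {ξ ξ' : D.X.obj} (f : ξ ⟶ ξ') : PP D ξ ⟶ PP D ξ' :=
  Over.homMk ⟨{ app := fun T => TypeCat.ofHom fun q => (⟨PElt.v q, PElt.χ q ≫ f⟩ : PElt D ξ' T.unop)
                naturality := fun T T' l => by
                  ext q
                  exact congrArg (PElt.mk (B.obj.map l (PElt.v q))) (Category.assoc _ _ _) }⟩ rfl

theorem tVal_postO {ξ ξ' : D.X.obj} (f : ξ ⟶ ξ') {T : Over S} {v : B.obj.obj (op T)}
    (χ : D.x.obj (el T v) ⟶ ξ) : tVal (postO D f) χ = χ ≫ f :=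
  PElt.at_mk v (χ ≫ f) _

theorem pVal_postO {Z : Over B} {ξ ξ' : D.X.obj} (f : ξ ⟶ ξ') (p : Z ⟶ PP D ξ) (T : Over S)
    (e : Z.left.obj.obj (op T)) : pVal (p ≫ postO D f) T e = pVal p T e ≫ f :=
  (pVal_tPt _ p T e).trans (tVal_postO f _)

theorem postO_eqv {ξ ξ' : D.X.obj} (f : ξ ⟶ ξ') :
    (secAct D ξ).act ≫ postO D f = (GG D ◁ postO D f) ≫ (secAct D ξ').act := by
  refine pVal_ext fun T e => ?_
  rw [pVal_postO, secAct_act, secAct_act, actMap, actMap, smul_comp, whiskerLeft_fst, whiskerLeft_snd,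
    pVal_smul, pVal_smul, pVal_postO, Category.assoc]

theorem bSec_comp {ξ ξ' : D.X.obj} (f : ξ ⟶ ξ') :
    (AlgSp.yon S).map (D.X.p.map f) ≫ bSec D ξ' = bSec D ξ := by
  show (AlgSp.J S).uliftYoneda.map _ ≫ ((AlgSp.J S).uliftYonedaEquiv).symm _ = _
  rw [GrothendieckTopology.uliftYonedaEquiv_symm_naturality_left, secOf_map]
  rfl

theorem isPullback_postO {ξ ξ' : D.X.obj} (f : ξ ⟶ ξ') :
    IsPullback (postO D f) (projO D ξ) (projO D ξ') (AlgSt.bHom (D.X.p.map f) (bSec_comp f)) := by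
  have w : postO D f ≫ projO D ξ' = projO D ξ ≫ AlgSt.bHom (D.X.p.map f) (bSec_comp f) := by
    refine Over.OverMorphism.ext ?_
    ext T q
    exact congrArg ULift.up (kOf_comp_right (PElt.χ q) f)
  have key : ∀ s : PullbackCone (projO D ξ') (AlgSt.bHom (D.X.p.map f) (bSec_comp f)),
      ∃ p : s.pt ⟶ PP D ξ, p ≫ postO D f = s.fst ∧ p ≫ projO D ξ = s.snd := fun s => by
    have hc : ∀ (T : Over S) (e : s.pt.left.obj.obj (op T)), ∃ χ : D.x.obj (elZ e) ⟶ ξ,
        χ ≫ f = pVal s.fst T e ∧ kOf χ = (s.snd.left.hom.app (op T) e).down := fun T e => by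
      have h : kOf (pVal s.fst T e) = (s.snd.left.hom.app (op T) e).down ≫ D.X.p.map f := by
        rw [← projO_app, s.condition]
        rfl
      have hp : (eqToHom (D.x.w_obj (elZ e)) ≫ (s.snd.left.hom.app (op T) e).down) ≫ D.X.p.map f =
          D.X.p.map (pVal s.fst T e) := by
        rw [Category.assoc, ← h, kOf]
        simp
      refine ⟨factor D.fib f (pVal s.fst T e) _ hp, factor_comp D.fib f _ _ hp, ?_⟩
      rw [kOf, factor_map]
      simp
    choose χ hχ hχk using hc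
    obtain ⟨p, hp⟩ := exists_pHom χ fun T' T k e => by
      refine hom_eq_of_comp_eq D.fib f ?_ ?_
      · refine (cancel_epi (eqToHom (D.x.w_obj (elZ (s.pt.left.obj.map k.op e))).symm)).1 ?_
        show kOf (D.x.map (rhat k e) ≫ χ T e) = kOf (χ T' _)
        rw [kOf_comp, hχk, hχk, NatTrans.naturality_apply s.snd.left.hom k.op e]
        rfl
      · rw [Category.assoc, hχ, hχ, pVal_natural]
    exact ⟨p, pVal_ext fun T e => by rw [pVal_postO, hp, hχ],
      proj_ext fun T e => by rw [projO_app, hp, hχk]⟩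
  refine IsPullback.of_isLimit' ⟨w⟩ (PullbackCone.IsLimit.mk _
    (fun s => (key s).choose) (fun s => (key s).choose_spec.1) (fun s => (key s).choose_spec.2)
    (fun s m hm₁ hm₂ => pVal_ext fun T e => hom_eq_of_comp_eq D.fib f ?_ ?_))
  · refine (cancel_epi (eqToHom (D.x.w_obj (elZ e)).symm)).1 ?_
    show kOf (pVal m T e) = kOf (pVal _ T e)
    rw [← projO_app, ← projO_app, hm₂, (key s).choose_spec.2]
  · rw [← pVal_postO, ← pVal_postO, hm₁, (key s).choose_spec.1]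

theorem postO_comp {ξ ξ' ξ'' : D.X.obj} (f : ξ ⟶ ξ') (g : ξ' ⟶ ξ'') :
    postO D (f ≫ g) = postO D f ≫ postO D g :=
  pVal_ext fun T e => by
    rw [← Category.id_comp (postO D (f ≫ g)), ← Category.id_comp (postO D f), pVal_postO, pVal_postO,
      pVal_postO, Category.assoc]

variable (hπ : Gerb.LocSurjHom (AlgSp.J S) D.π)

/-- The torsor of morphisms from the section to an object. -/
def torsorOf (ξ : D.X.obj) : (𝒢).obj where
  base := D.X.p.obj ξ
  b := bSec D ξ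
  P := PP D ξ
  act := secAct D ξ
  π := projO D ξ
  cart := isPullback_secAct ξ
  loc := hasSecLoc_projO hπ ξ
  φ := toUnit _
  eqv := toUnit_unique _ _

/-- The morphism of torsors under a morphism of objects. -/
def torsorMap {ξ ξ' : D.X.obj} (f : ξ ⟶ ξ') : torsorOf hπ ξ ⟶ torsorOf hπ ξ' where
  base := D.X.p.map f
  wb := bSec_comp f
  top := postO D f
  eqv := postO_eqv f
  cart := isPullback_postO f
  wφ := toUnit_unique _ _

/-- The comparison with the classifying stack. -/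
def toBG : D.X ⥤ᵇ 𝒢 where
  toFunctor :=
    { obj := torsorOf hπ
      map := torsorMap hπ
      map_id := fun ξ => AlgSt.SpQuotObj.hom_ext (D.X.p.map_id ξ) (pVal_ext fun T e => by
        show pVal (postO D (𝟙 ξ)) T e = pVal (𝟙 (PP D ξ)) T e
        rw [← Category.id_comp (postO D (𝟙 ξ)), pVal_postO, Category.comp_id])
      map_comp := fun f g => AlgSt.SpQuotObj.hom_ext (D.X.p.map_comp f g) (postO_comp f g) }
  w := rfl

theorem faithful_toBG : (toBG hπ).toFunctor.Faithful := ⟨fun {ξ ξ'} f g h => by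
  have hb : D.X.p.map f = D.X.p.map g := congrArg (·.base) h
  have ht : postO D f = postO D g := congrArg (·.top) h
  obtain ⟨R, hR, hl⟩ := exists_local_lift hπ ξ
  refine hom_ext_of_cover hb R hR fun a l hla => ?_
  obtain ⟨T, v, i, χ, -, rfl⟩ := hl l hla
  rw [Category.assoc, Category.assoc, ← tVal_postO, ← tVal_postO, ht]⟩

theorem full_toBG : (toBG hπ).toFunctor.Full := ⟨fun {ξ ξ'} m => by
  let t : PP D ξ ⟶ PP D ξ' := m.top
  let k : D.X.p.obj ξ ⟶ D.X.p.obj ξ' := m.base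
  have hk : ∀ {T : Over S} {v : B.obj.obj (op T)} (χ : D.x.obj (el T v) ⟶ ξ),
      kOf (tVal t χ) = kOf χ ≫ k := fun {T v} χ => by
    have h := congrArg (fun φ : PP D ξ ⟶ Over.mk (bSec D ξ') =>
      (φ.left.hom.app (op T) (⟨v, χ⟩ : PElt D ξ T)).down) m.cart.w
    exact (PElt.kOf_at (tPt t ⟨v, χ⟩) v (tPt_v t _)).trans h
  obtain ⟨f, hf, hf'⟩ := exists_hom hπ t m.eqv k hk
  refine ⟨f, AlgSt.SpQuotObj.hom_ext hf (pVal_ext fun T e => ?_)⟩
  show pVal (postO D f) T e = pVal t T e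
  rw [← Category.id_comp (postO D f), ← Category.id_comp t, pVal_postO, pVal_tPt, hf']⟩

theorem base_homOfPt {G : Over B} [GrpObj G] {X : Over B} {aX : AlgSp.GAction G X}
    {a : (AlgSt.ofSp X.left).obj} (A : AlgSt.SpQuotObj Scheme.fppfPrecoverage G aX)
    (σ : (AlgSp.yon S).obj a.base ⟶ A.P.left) (hσ : σ ≫ A.φ.left = StkBG.pt a) (k : a.base ⟶ A.base)
    (hk : σ ≫ A.π.left = (AlgSp.yon S).map k) : (StkBG.homOfPt A σ hσ).base = k := by
  apply (AlgSp.yon S).map_injective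
  rw [← hk, ← StkBG.ptO_π, StkBG.ptO_homOfPt]

theorem exists_toBG_hom (A : (𝒢).obj) {V : Over S} (k : V ⟶ A.base)
    (hk : Groth.QuotStk.secSieve A.π.left k) :
    ∃ (ξ : D.X.obj) (g : (toBG hπ).obj ξ ⟶ A), (𝒢).p.IsHomLift k g := by
  obtain ⟨s, hs⟩ := hk
  let b' : (AlgSp.yon S).obj V ⟶ B := s ≫ A.P.hom
  let v : B.obj.obj (op V) := yEquiv b'
  let a₁ : (AlgSt.ofSp (𝟙_ (Over B)).left).obj := el V v
  let a : (AlgSt.ofSp B).obj := el V v
  let σ₁ : (AlgSp.yon S).obj V ⟶ (PP D (D.x.obj a)).left := yEquiv.symm (⟨v, 𝟙 _⟩ : PElt D (D.x.obj a) V)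
  have hσ₁ : σ₁ ≫ (toUnit (PP D (D.x.obj a))).left = StkBG.pt a₁ := by
    apply yEquiv.injective
    refine ((AlgSp.J S).uliftYonedaEquiv_comp _ _).trans ?_
    refine Eq.trans (congrArg _ (Equiv.apply_symm_apply _ _)) ?_
    exact (Equiv.apply_symm_apply _ _).symm
  have hσ₂ : s ≫ A.φ.left = StkBG.pt a₁ := by
    show _ = yEquiv.symm (yEquiv b')
    rw [Equiv.symm_apply_apply, toUnit_unique A.φ (toUnit A.P)]
    rfl
  let h₁ := StkBG.homOfPt (aX := AlgSt.trivGAction (GG D)) (a := a₁) ((toBG hπ).obj (D.x.obj a)) σ₁ hσ₁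
  let h₂ := StkBG.homOfPt (aX := AlgSt.trivGAction (GG D)) (a := a₁) A s hσ₂
  have hb₂ : h₂.base = k := base_homOfPt (aX := AlgSt.trivGAction (GG D)) (a := a₁) A s hσ₂ k hs
  have hπ₁ : σ₁ ≫ (projO D (D.x.obj a)).left = (AlgSp.yon S).map (eqToHom (D.x.w_obj a).symm) := by
    apply yEquiv.injective
    refine ((AlgSp.J S).uliftYonedaEquiv_comp _ _).trans ?_
    refine Eq.trans (congrArg _ (Equiv.apply_symm_apply _ _)) ?_
    refine Eq.trans ?_ (GrothendieckTopology.uliftYonedaEquiv_uliftYoneda_map (AlgSp.J S) _).symm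
    exact congrArg ULift.up (by simp [kOf])
  have hb₁ : h₁.base = eqToHom (D.x.w_obj a).symm :=
    base_homOfPt (aX := AlgSt.trivGAction (GG D)) (a := a₁) ((toBG hπ).obj (D.x.obj a)) σ₁ hσ₁ (eqToHom (D.x.w_obj a).symm) hπ₁
  have hG : FibCat.IsFibGrpd (𝒢).p := (Groth.QuotStk.isStack_spQuotSt (GG D) (AlgSt.trivGAction (GG D))).1
  have hv₁ : IsVert (𝒢).p h₁ := ⟨(D.x.w_obj a).symm, hb₁⟩
  have := hv₁.isIso hG
  refine ⟨D.x.obj a, inv h₁ ≫ h₂, (isHomLift_iff_eqToHom _ _).2 ⟨D.x.w_obj a, rfl, ?_⟩⟩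
  have e : (𝒢).p.map h₁ ≫ (𝒢).p.map (inv h₁ ≫ h₂) = (𝒢).p.map h₂ := by
    rw [← Functor.map_comp, IsIso.hom_inv_id_assoc]
  change h₁.base ≫ _ = h₂.base at e
  rw [hb₁, hb₂] at e
  rw [← e]
  simp

theorem isEquivOver_toBG : FibCat.IsEquivOver (toBG hπ) := by
  have := full_toBG hπ
  have := faithful_toBG hπ
  refine isEquivOver_of_locally_surj (AlgSp.J S) D.isStack
    (isPrestack_of_isStack (Groth.QuotStk.isStack_spQuotSt (GG D) (AlgSt.trivGAction (GG D)))) (toBG hπ) fun A =>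
      ⟨_, Groth.QuotStk.secSieve_mem_of_hasSecLoc A.loc, fun V f hf => exists_toBG_hom hπ A f hf⟩

theorem nonempty_comp_toBG_iso :
    Nonempty (BasedFunctor.comp (toBG hπ)
      (W4stkstmgerbes.spQuotToBase Scheme.fppfPrecoverage (GG D) (AlgSt.trivGAction (GG D))) ≅ D.π) :=
  nonempty_iso_of_secOf B.obj fun ξ => by
    refine (map_op_id B.obj _ rfl _).trans ?_
    exact (bSec_app ξ (𝟙 _)).trans (map_op_id B.obj _ rfl _)

end

end Groth.StkGerb.Section
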