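import Groth.Agent.StkGerb.Section.SecPsh
import Groth.Agent.QuotStk.SpQuotFib
import Mathlib.CategoryTheory.Monoidal.Cartesian.Grp

/-!
# The automorphism group of a section and the torsors of morphisms out of it
-/

set_option autoImplicit false
set_option backward.isDefEq.respectTransparency false
set_option backward.isDefEq.respectTransparency.types false

universe u

open CategoryTheory CategoryTheory.Limits AlgebraicGeometry Opposite MonoidalCategory CartesianMonoidalCategory
open CategoryTheory.MonObj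
open scoped CategoryTheory.Obj

namespace Groth.StkGerb.Section

open Groth.StkBase
open Groth.AlgSpBasic (yEquiv)

noncomputable section

variable {S : Scheme.{u}} {B : AlgSp.Sp S} {D : SecData S B}

theorem GElt.res_at {T' T : Over S} (k : T' ⟶ T) (p : GElt D T) (q : GElt D T')
    (hk : (autPsh D).map k.op p = q) (v : B.obj.obj (op T)) (h : p.v = v) (v' : B.obj.obj (op T'))
    (h' : q.v = v') (g : el T' v' ⟶ el T v) (hg : g.hom = k) :
    Band.res D.fib (D.x.map g) (p.at v h) = q.at v' h' := by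
  subst hk h'
  let g' : el T' (B.obj.map k.op p.v) ⟶ el T p.v := hat k p.v
  subst h
  rw [GElt.at_self, show g = g' from Stk.EltObj.hom_ext hg]
  exact (GElt.at_self ((autPsh D).map k.op p) rfl).symm

theorem GElt.at_congr {T : Over S} {p q : GElt D T} (e : p = q) (v : B.obj.obj (op T)) (h : p.v = v)
    (h' : q.v = v) : p.at v h = q.at v h' := by
  subst e; rfl

theorem GElt.at_mk {T : Over S} (v : B.obj.obj (op T)) (α : Gerb.AutO (D.x.obj (el T v))) (h : v = v) :
    (⟨v, α⟩ : GElt D T).at v h = α :=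
  GElt.at_self (⟨v, α⟩ : GElt D T) h

theorem GElt.res_castEl {T : Over S} (p : GElt D T) (v : B.obj.obj (op T)) (h : p.v = v)
    (v' : B.obj.obj (op T)) (e : v = v') (h' : p.v = v') :
    Band.res D.fib (D.x.map (castEl e)) (p.at v h) = p.at v' h' := by
  subst e
  rw [castEl_self]
  exact (congrArg (fun m => Band.res D.fib m (p.at v h)) (D.x.toFunctor.map_id _)).trans
    (Band.res_id D.fib _)

theorem PElt.map_at {ξ : D.X.obj} {T' T : Over S} (k : T' ⟶ T) (p : PElt D ξ T) (q : PElt D ξ T')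
    (hk : (homPsh D ξ).map k.op p = q) (v : B.obj.obj (op T)) (h : p.v = v) (v' : B.obj.obj (op T'))
    (h' : q.v = v') (g : el T' v' ⟶ el T v) (hg : g.hom = k) :
    D.x.map g ≫ p.at v h = q.at v' h' := by
  subst hk h'
  subst h
  rw [PElt.at_self, show g = hat k p.v from Stk.EltObj.hom_ext hg]
  exact (PElt.at_self ((homPsh D ξ).map k.op p) rfl).symm

theorem PElt.at_congr {ξ : D.X.obj} {T : Over S} {p q : PElt D ξ T} (e : p = q) (v : B.obj.obj (op T))
    (h : p.v = v) (h' : q.v = v) : p.at v h = q.at v h' := by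
  subst e; rfl

theorem PElt.at_mk {ξ : D.X.obj} {T : Over S} (v : B.obj.obj (op T)) (χ : D.x.obj (el T v) ⟶ ξ)
    (h : v = v) : (⟨v, χ⟩ : PElt D ξ T).at v h = χ :=
  PElt.at_self (⟨v, χ⟩ : PElt D ξ T) h

theorem PElt.map_castEl {ξ : D.X.obj} {T : Over S} (p : PElt D ξ T) (v : B.obj.obj (op T)) (h : p.v = v)
    (v' : B.obj.obj (op T)) (e : v = v') (h' : p.v = v') :
    D.x.map (castEl e) ≫ p.at v h = p.at v' h' := by
  subst e
  rw [castEl_self, D.x.toFunctor.map_id, Category.id_comp]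

theorem PElt.kOf_at {ξ : D.X.obj} {T : Over S} (p : PElt D ξ T) (v : B.obj.obj (op T)) (h : p.v = v) :
    kOf (p.at v h) = kOf p.χ := by
  subst h
  rw [PElt.at_self]

variable (D)

/-- The sheaf of automorphisms of the section. -/
def autSp : AlgSp.Sp S := ⟨autPsh D, isSheaf_autPsh D⟩

/-- The map of the sheaf of automorphisms to the base. -/
def autV : autSp D ⟶ B :=
  ⟨{ app := fun T => TypeCat.ofHom fun p => GElt.v p
     naturality := fun _ _ _ => rfl }⟩

/-- The automorphism group of the section, over the base. -/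
def GG : Over B := Over.mk (autV D)

/-- The sheaf of morphisms from the section to an object. -/
def homSp (ξ : D.X.obj) : AlgSp.Sp S := ⟨homPsh D ξ, isSheaf_homPsh D ξ⟩

/-- The map of the sheaf of morphisms to the base. -/
def homV (ξ : D.X.obj) : homSp D ξ ⟶ B :=
  ⟨{ app := fun T => TypeCat.ofHom fun p => PElt.v p
     naturality := fun _ _ _ => rfl }⟩

/-- The sheaf of morphisms from the section to an object, over the base. -/
def PP (ξ : D.X.obj) : Over B := Over.mk (homV D ξ)

variable {D}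

section Points

variable {Z Z' : Over B}

/-- The element of the base under a section of a sheaf over it. -/
abbrev elZ {T : Over S} (e : Z.left.obj.obj (op T)) : (AlgSt.ofSp B).obj :=
  el T (Z.hom.hom.app (op T) e)

/-- The morphism of elements under a restriction. -/
def rhat {T' T : Over S} (k : T' ⟶ T) (e : Z.left.obj.obj (op T)) :
    elZ (Z.left.obj.map k.op e) ⟶ elZ e :=
  eltHom k (NatTrans.naturality_apply Z.hom.hom k.op e).symm

@[simp] theorem rhat_hom {T' T : Over S} (k : T' ⟶ T) (e : Z.left.obj.obj (op T)) :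
    (rhat k e).hom = k := rfl

theorem w_app {W : Over B} (m : Z ⟶ W) {T : Over S} (e : Z.left.obj.obj (op T)) :
    W.hom.hom.app (op T) (m.left.hom.app (op T) e) = Z.hom.hom.app (op T) e :=
  congrArg (fun φ : Z.left ⟶ B => φ.hom.app (op T) e) (Over.w m)

variable (D Z)

/-- Families of automorphisms of the section along a sheaf over the base. -/
def gFam : Subgroup (∀ (T : Over S) (e : Z.left.obj.obj (op T)), Gerb.AutO (D.x.obj (elZ e))) where
  carrier := {s | ∀ ⦃T' T : Over S⦄ (k : T' ⟶ T) (e : Z.left.obj.obj (op T)),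
    Band.res D.fib (D.x.map (rhat k e)) (s T e) = s T' (Z.left.obj.map k.op e)}
  mul_mem' {s t} hs ht T' T k e := by
    show Band.res D.fib _ (s T e * t T e) = _
    rw [map_mul, hs k e, ht k e]
    rfl
  one_mem' T' T k e := map_one _
  inv_mem' {s} hs T' T k e := by
    show Band.res D.fib _ (s T e)⁻¹ = _
    rw [map_inv, hs k e]
    rfl

variable {D Z}

theorem gFam_natural (s : gFam D Z) {T' T : Over S} (k : T' ⟶ T) (e : Z.left.obj.obj (op T))
    (e' : Z.left.obj.obj (op T')) (he : Z.left.obj.map k.op e = e') (g : elZ e' ⟶ elZ e)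
    (hg : g.hom = k) : Band.res D.fib (D.x.map g) (s.1 T e) = s.1 T' e' := by
  subst he
  rw [show g = rhat k e from Stk.EltObj.hom_ext hg]
  exact s.2 k e

/-- A point of the group, evaluated. -/
abbrev gPt (g : Z ⟶ GG D) (T : Over S) (e : Z.left.obj.obj (op T)) : GElt D T :=
  g.left.hom.app (op T) e

theorem gPt_v (g : Z ⟶ GG D) (T : Over S) (e : Z.left.obj.obj (op T)) :
    (gPt g T e).v = Z.hom.hom.app (op T) e :=
  w_app g e

theorem gPt_map (g : Z ⟶ GG D) {T' T : Over S} (k : T' ⟶ T) (e : Z.left.obj.obj (op T)) :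
    (autPsh D).map k.op (gPt g T e) = gPt g T' (Z.left.obj.map k.op e) :=
  (NatTrans.naturality_apply g.left.hom k.op e).symm

/-- The automorphism given by a point of the group. -/
def gVal (g : Z ⟶ GG D) (T : Over S) (e : Z.left.obj.obj (op T)) : Gerb.AutO (D.x.obj (elZ e)) :=
  (gPt g T e).at _ (gPt_v g T e)

theorem gVal_mem (g : Z ⟶ GG D) : gVal g ∈ gFam D Z := fun T' T k e =>
  GElt.res_at k _ _ (gPt_map g k e) _ (gPt_v g T e) _ (gPt_v g T' _) _ rfl

theorem gHom_natural (s : gFam D Z) {T' T : Over S} (k : T' ⟶ T) (e : Z.left.obj.obj (op T)) :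
    (⟨Z.hom.hom.app (op T') (Z.left.obj.map k.op e), s.1 T' (Z.left.obj.map k.op e)⟩ : GElt D T') =
      (autPsh D).map k.op (⟨Z.hom.hom.app (op T) e, s.1 T e⟩ : GElt D T) := by
  refine GElt.ext' (NatTrans.naturality_apply Z.hom.hom k.op e) ?_
  show Band.res D.fib _ (s.1 T' (Z.left.obj.map k.op e)) = _
  rw [← s.2 k e]
  exact res_xmap _ (rhat k e) (hat k _) (Category.id_comp _) _

/-- The point given by a family of automorphisms. -/
def gHom (s : gFam D Z) : Z ⟶ GG D :=
  Over.homMk ⟨{ app := fun T => TypeCat.ofHom fun e => (⟨Z.hom.hom.app T e, s.1 T.unop e⟩ : GElt D T.unop)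
                naturality := fun T T' l => by
                  ext e
                  exact gHom_natural s l.unop e }⟩ rfl

variable (D Z) in
/-- Points of the group are families of automorphisms. -/
def gEquiv : (Z ⟶ GG D) ≃ gFam D Z where
  toFun g := ⟨gVal g, gVal_mem g⟩
  invFun := gHom
  left_inv g := by
    refine Over.OverMorphism.ext ?_
    ext T e
    show (⟨Z.hom.hom.app T e, gVal g T.unop e⟩ : GElt D T.unop) = gPt g T.unop e
    exact (GElt.ext' (gPt_v g T.unop e) rfl).symm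
  right_inv s := by
    refine Subtype.ext ?_
    funext T e
    exact GElt.at_mk _ (s.1 T e) _

theorem gVal_comp (m : Z' ⟶ Z) (g : Z ⟶ GG D) (T : Over S) (e : Z'.left.obj.obj (op T)) :
    gVal (m ≫ g) T e =
      Band.res D.fib (D.x.map (castEl (w_app m e))) (gVal g T (m.left.hom.app (op T) e)) :=
  (GElt.res_castEl (gPt g T (m.left.hom.app (op T) e)) _ (gPt_v g T _) _ (w_app m e)
    (gPt_v (m ≫ g) T e)).symm

theorem gVal_ext {g g' : Z ⟶ GG D} (h : ∀ T e, gVal g T e = gVal g' T e) : g = g' :=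
  (gEquiv D Z).injective (Subtype.ext (funext₂ h))

end Points

variable (D)

/-- The functor of groups represented by the automorphism group. -/
def gFun : (Over B)ᵒᵖ ⥤ GrpCat.{u + 1} where
  obj Z := GrpCat.of (gFam D Z.unop)
  map {Z Z'} m := GrpCat.ofHom
    { toFun := fun s => ⟨fun T e =>
          Band.res D.fib (D.x.map (castEl (w_app m.unop e))) (s.1 T (m.unop.left.hom.app (op T) e)),
        fun T' T k e => by
          let g : elZ (Z'.unop.left.obj.map k.op e) ⟶ elZ (m.unop.left.hom.app (op T) e) :=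
            eltHom k ((congrArg (B.obj.map k.op) (w_app m.unop e)).trans
              (NatTrans.naturality_apply Z'.unop.hom.hom k.op e).symm)
          refine (res_xmap (rhat k e) (castEl (w_app m.unop e)) g (Category.comp_id _) _).trans ?_
          let g' : elZ (m.unop.left.hom.app (op T') (Z'.unop.left.obj.map k.op e)) ⟶
              elZ (m.unop.left.hom.app (op T) e) :=
            eltHom k ((congrArg (B.obj.map k.op) (w_app m.unop e)).trans
              ((NatTrans.naturality_apply Z'.unop.hom.hom k.op e).symm.trans (w_app m.unop _).symm))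
          refine Eq.trans ?_ (congrArg (Band.res D.fib _) (gFam_natural s k (m.unop.left.hom.app (op T) e) _
            (NatTrans.naturality_apply m.unop.left.hom k.op e).symm g' rfl))
          exact (res_xmap _ g' g (Category.id_comp _) _).symm⟩
      map_one' := Subtype.ext (funext₂ fun T e => map_one _)
      map_mul' := fun s t => Subtype.ext (funext₂ fun T e => map_mul _ _ _) }
  map_id Z := by
    refine GrpCat.hom_ext (MonoidHom.ext fun s => ?_)
    refine Subtype.ext (funext₂ fun T e => ?_)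
    exact (congrArg (fun m => Band.res D.fib m (s.1 T e)) (xmap_self _ rfl)).trans (Band.res_id D.fib _)
  map_comp {Z Z' Z''} m m' := by
    refine GrpCat.hom_ext (MonoidHom.ext fun s => ?_)
    refine Subtype.ext (funext₂ fun T e => ?_)
    exact (res_xmap (castEl (w_app m'.unop e)) (castEl (w_app m.unop _)) (castEl (w_app (m'.unop ≫ m.unop) e))
      (Category.id_comp _) _).symm

/-- The automorphism group represents it. -/
def gRep : (gFun D ⋙ forget GrpCat).RepresentableBy (GG D) where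
  homEquiv {Z} := gEquiv D Z
  homEquiv_comp f g := Subtype.ext (funext₂ fun T e => gVal_comp f g T e)

instance instGrpObjGG : GrpObj (GG D) := GrpObj.ofRepresentableBy (GG D) (gFun D) (gRep D)

variable {D}

section Mul

variable {Z : Over B}

theorem gEquiv_mul (g h : Z ⟶ GG D) : gEquiv D Z (g * h) = gEquiv D Z g * gEquiv D Z h := by
  have hμ : (gRep D).homEquiv (μ[GG D]) =
      (gEquiv D _ (fst (GG D) (GG D)) * gEquiv D _ (snd (GG D) (GG D)) : gFam D _) :=
    Equiv.apply_symm_apply _ _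
  rw [Hom.mul_def]
  refine ((gRep D).homEquiv_comp (lift g h) μ[GG D]).trans ?_
  rw [hμ]
  refine (map_mul ((gFun D).map (lift g h).op).hom _ _).trans ?_
  exact congrArg₂ (· * ·)
    (((gRep D).homEquiv_comp (lift g h) (fst _ _)).symm.trans (congrArg (gEquiv D Z) (lift_fst _ _)))
    (((gRep D).homEquiv_comp (lift g h) (snd _ _)).symm.trans (congrArg (gEquiv D Z) (lift_snd _ _)))

theorem gVal_mul (g h : Z ⟶ GG D) (T : Over S) (e : Z.left.obj.obj (op T)) :
    gVal (g * h) T e = gVal g T e * gVal h T e :=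
  congrFun (congrFun (congrArg Subtype.val (gEquiv_mul g h)) T) e

theorem gVal_one (T : Over S) (e : Z.left.obj.obj (op T)) : gVal (1 : Z ⟶ GG D) T e = 1 := by
  have h := gVal_mul (1 : Z ⟶ GG D) 1 T e
  rw [_root_.one_mul] at h
  exact left_eq_mul.1 h

end Mul

section Action

variable {ξ : D.X.obj} {Z Z' : Over B}

/-- A point of the sheaf of morphisms, evaluated. -/
abbrev pPt (p : Z ⟶ PP D ξ) (T : Over S) (e : Z.left.obj.obj (op T)) : PElt D ξ T :=
  p.left.hom.app (op T) e

theorem pPt_v (p : Z ⟶ PP D ξ) (T : Over S) (e : Z.left.obj.obj (op T)) :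
    (pPt p T e).v = Z.hom.hom.app (op T) e :=
  w_app p e

theorem pPt_map (p : Z ⟶ PP D ξ) {T' T : Over S} (k : T' ⟶ T) (e : Z.left.obj.obj (op T)) :
    (homPsh D ξ).map k.op (pPt p T e) = pPt p T' (Z.left.obj.map k.op e) :=
  (NatTrans.naturality_apply p.left.hom k.op e).symm

/-- The morphism given by a point of the sheaf of morphisms. -/
def pVal (p : Z ⟶ PP D ξ) (T : Over S) (e : Z.left.obj.obj (op T)) : D.x.obj (elZ e) ⟶ ξ :=
  (pPt p T e).at _ (pPt_v p T e)

theorem pVal_natural (p : Z ⟶ PP D ξ) {T' T : Over S} (k : T' ⟶ T) (e : Z.left.obj.obj (op T)) :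
    D.x.map (rhat k e) ≫ pVal p T e = pVal p T' (Z.left.obj.map k.op e) :=
  PElt.map_at k _ _ (pPt_map p k e) _ (pPt_v p T e) _ (pPt_v p T' _) _ rfl

theorem pVal_comp (m : Z' ⟶ Z) (p : Z ⟶ PP D ξ) (T : Over S) (e : Z'.left.obj.obj (op T)) :
    pVal (m ≫ p) T e = D.x.map (castEl (w_app m e)) ≫ pVal p T (m.left.hom.app (op T) e) :=
  (PElt.map_castEl (pPt p T (m.left.hom.app (op T) e)) _ (pPt_v p T _) _ (w_app m e)
    (pPt_v (m ≫ p) T e)).symm

theorem pVal_ext {p p' : Z ⟶ PP D ξ} (h : ∀ T e, pVal p T e = pVal p' T e) : p = p' := by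
  refine Over.OverMorphism.ext ?_
  ext T e
  have hv : (pPt p T.unop e).v = (pPt p' T.unop e).v := (pPt_v p T.unop e).trans (pPt_v p' T.unop e).symm
  show pPt p T.unop e = pPt p' T.unop e
  refine PElt.ext' hv ?_
  have h₁ := PElt.map_castEl (pPt p T.unop e) _ (pPt_v p T.unop e) _ (pPt_v p' T.unop e).symm hv
  have h₂ := PElt.map_castEl (pPt p' T.unop e) _ (pPt_v p' T.unop e) _ (pPt_v p' T.unop e).symm rfl
  rw [PElt.at_self] at h₂
  exact (h₁.symm.trans (congrArg (_ ≫ ·) (h T.unop e))).trans h₂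

theorem exists_pHom (s : ∀ (T : Over S) (e : Z.left.obj.obj (op T)), D.x.obj (elZ e) ⟶ ξ)
    (hs : ∀ ⦃T' T : Over S⦄ (k : T' ⟶ T) (e : Z.left.obj.obj (op T)),
      D.x.map (rhat k e) ≫ s T e = s T' (Z.left.obj.map k.op e)) :
    ∃ p : Z ⟶ PP D ξ, ∀ T e, pVal p T e = s T e := by
  have key : ∀ {T' T : Over S} (k : T' ⟶ T) (e : Z.left.obj.obj (op T)),
      (⟨Z.hom.hom.app (op T') (Z.left.obj.map k.op e), s T' (Z.left.obj.map k.op e)⟩ : PElt D ξ T') =
        (homPsh D ξ).map k.op (⟨Z.hom.hom.app (op T) e, s T e⟩ : PElt D ξ T) := fun {T' T} k e => by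
    refine PElt.ext' (NatTrans.naturality_apply Z.hom.hom k.op e) ?_
    show D.x.map _ ≫ s T' (Z.left.obj.map k.op e) = _
    rw [← hs k e, ← Category.assoc]
    exact congrArg (· ≫ s T e) (xmap_eq _ (rhat k e) (hat k _) (Category.id_comp _))
  refine ⟨Over.homMk ⟨{ app := fun T => TypeCat.ofHom fun e =>
                          (⟨Z.hom.hom.app T e, s T.unop e⟩ : PElt D ξ T.unop)
                        naturality := fun T T' l => by ext e; exact key l.unop e }⟩ rfl,
    fun T e => PElt.at_mk _ (s T e) _⟩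

/-- The action of a point of the group on a point of the sheaf of morphisms. -/
theorem exists_smul (g : Z ⟶ GG D) (p : Z ⟶ PP D ξ) :
    ∃ q : Z ⟶ PP D ξ, ∀ T e, pVal q T e = (gVal g T e)⁻¹.hom.1 ≫ pVal p T e := by
  refine exists_pHom _ fun T' T k e => ?_
  rw [← gVal_mem g k e, ← map_inv]
  rw [← Category.assoc, ← Band.res_spec D.fib (D.x.map (rhat k e)), Category.assoc, pVal_natural]

/-- The action of a point of the group on a point of the sheaf of morphisms. -/
def smul (g : Z ⟶ GG D) (p : Z ⟶ PP D ξ) : Z ⟶ PP D ξ := (exists_smul g p).choose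

theorem pVal_smul (g : Z ⟶ GG D) (p : Z ⟶ PP D ξ) (T : Over S) (e : Z.left.obj.obj (op T)) :
    pVal (smul g p) T e = (gVal g T e)⁻¹.hom.1 ≫ pVal p T e :=
  (exists_smul g p).choose_spec T e

theorem smul_comp (m : Z' ⟶ Z) (g : Z ⟶ GG D) (p : Z ⟶ PP D ξ) :
    m ≫ smul g p = smul (m ≫ g) (m ≫ p) :=
  pVal_ext fun T e => by
    rw [pVal_comp, pVal_smul, pVal_smul, pVal_comp, gVal_comp, ← map_inv, ← Category.assoc,
      ← Band.res_spec D.fib (D.x.map (castEl (w_app m e))), Category.assoc]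

theorem smul_one (p : Z ⟶ PP D ξ) : smul 1 p = p :=
  pVal_ext fun T e => by
    rw [pVal_smul, gVal_one, inv_one, autO_one_val, Category.id_comp]

theorem smul_mul (g h : Z ⟶ GG D) (p : Z ⟶ PP D ξ) : smul (g * h) p = smul g (smul h p) :=
  pVal_ext fun T e => by
    rw [pVal_smul, pVal_smul, pVal_smul, gVal_mul, mul_inv_rev, Band.autO_mul_val, Category.assoc]

/-- The action map. -/
def actMap (ξ : D.X.obj) : GG D ⊗ PP D ξ ⟶ PP D ξ := smul (fst _ _) (snd _ _)

theorem lift_actMap (g : Z ⟶ GG D) (p : Z ⟶ PP D ξ) : lift g p ≫ actMap ξ = smul g p := by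
  rw [actMap, smul_comp, lift_fst, lift_snd]

variable (D) in
/-- The action of the automorphisms of the section on the morphisms out of it. -/
def secAct (ξ : D.X.obj) : AlgSp.GAction (GG D) (PP D ξ) where
  act := actMap ξ
  one_act := by
    rw [actMap, smul_comp, whiskerRight_fst, whiskerRight_snd,
      toUnit_unique (fst (𝟙_ (Over B)) (PP D ξ)) (toUnit _), ← Hom.one_def, smul_one, leftUnitor_hom]
  mul_act := by
    have hμ : fst (GG D ⊗ GG D) (PP D ξ) ≫ μ[GG D] =
        (fst _ _ ≫ fst (GG D) (GG D)) * (fst _ _ ≫ snd (GG D) (GG D)) := by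
      rw [Hom.mul_def, ← comp_lift, lift_fst_snd, Category.comp_id]
    simp only [actMap, smul_comp, whiskerRight_fst, whiskerRight_snd, whiskerLeft_fst, whiskerLeft_snd,
      whiskerLeft_snd_assoc, associator_hom_fst, associator_hom_snd_fst, associator_hom_snd_snd,
      Category.assoc, hμ, smul_mul]

theorem secAct_act (ξ : D.X.obj) : (secAct D ξ).act = actMap ξ := rfl

end Action

section Proj

variable (D) in
/-- The element of the base under an object, as a point. -/
def bSec (ξ : D.X.obj) : (AlgSp.yon S).obj (D.X.p.obj ξ) ⟶ B := yEquiv.symm (secOf D.π ξ)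

theorem bSec_app (ξ : D.X.obj) {T : Over S} (k : T ⟶ D.X.p.obj ξ) :
    (bSec D ξ).hom.app (op T) ⟨k⟩ = B.obj.map k.op (secOf D.π ξ) :=
  GrothendieckTopology.uliftYonedaEquiv_symm_app_apply _ _ _ _

variable (D) in
/-- The map of the sheaf of morphisms to the scheme under the target. -/
def projSp (ξ : D.X.obj) : homSp D ξ ⟶ (AlgSp.yon S).obj (D.X.p.obj ξ) :=
  ⟨{ app := fun T => TypeCat.ofHom fun p => ⟨kOf (PElt.χ p)⟩
     naturality := fun T T' l => by
      ext p
      exact congrArg ULift.up (kOf_of_map_eq D l.unop p _ rfl).symm }⟩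

variable (D) in
/-- The structure map of the torsor. -/
def projO (ξ : D.X.obj) : PP D ξ ⟶ Over.mk (bSec D ξ) :=
  Over.homMk (projSp D ξ) (by
    ext T p
    exact (bSec_app ξ (kOf (PElt.χ p))).trans (map_sec_kOf (PElt.χ p)))

theorem projO_app {Z : Over B} {ξ : D.X.obj} (p : Z ⟶ PP D ξ) (T : Over S) (e : Z.left.obj.obj (op T)) :
    ((p ≫ projO D ξ).left.hom.app (op T) e).down = kOf (pVal p T e) :=
  (PElt.kOf_at (pPt p T e) _ (pPt_v p T e)).symm

theorem proj_ext {Z : Over B} {ξ : D.X.obj} {f f' : Z ⟶ Over.mk (bSec D ξ)}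
    (h : ∀ (T : Over S) (e : Z.left.obj.obj (op T)),
      (f.left.hom.app (op T) e).down = (f'.left.hom.app (op T) e).down) : f = f' := by
  refine Over.OverMorphism.ext ?_
  ext T e
  exact ULift.ext _ _ (h T.unop e)

theorem smul_projO {Z : Over B} {ξ : D.X.obj} (g : Z ⟶ GG D) (p : Z ⟶ PP D ξ) :
    smul g p ≫ projO D ξ = p ≫ projO D ξ :=
  proj_ext fun T e => by
    rw [projO_app, projO_app, pVal_smul, kOf_vert_comp _ (isVert_autO _)]

theorem exists_smul_eq {Z : Over B} {ξ : D.X.obj} {p₁ p₂ : Z ⟶ PP D ξ}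
    (h : p₁ ≫ projO D ξ = p₂ ≫ projO D ξ) : ∃ g : Z ⟶ GG D, smul g p₂ = p₁ := by
  have hk : ∀ (T : Over S) (e : Z.left.obj.obj (op T)),
      ∃ α : Gerb.AutO (D.x.obj (elZ e)), α⁻¹.hom.1 ≫ pVal p₂ T e = pVal p₁ T e := fun T e => by
    have hkk : kOf (pVal p₁ T e) = kOf (pVal p₂ T e) := by rw [← projO_app, ← projO_app, h]
    have hp : D.X.p.map (pVal p₁ T e) = D.X.p.map (pVal p₂ T e) := (cancel_epi _).1 hkk
    obtain ⟨i, hi, hi'⟩ := exists_vert_iso_of_lifts D.fib (pVal p₁ T e) (pVal p₂ T e) rfl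
      (by rw [hp, eqToHom_refl, Category.id_comp])
    obtain ⟨β, hβ⟩ := exists_autO D.fib i.hom hi
    exact ⟨β⁻¹, by rw [inv_inv, hβ, hi']⟩
  choose α hα using hk
  refine ⟨gHom ⟨α, fun T' T k e => ?_⟩, pVal_ext fun T e => ?_⟩
  · refine inv_injective (Band.autO_ext ?_)
    refine hom_eq_of_comp_eq D.fib (pVal p₂ T' (Z.left.obj.map k.op e)) ?_ ?_
    · rw [(isVert_autO _).map_eq, (isVert_autO _).map_eq]
    · rw [hα, ← map_inv, ← pVal_natural p₂ k e, ← Category.assoc,
        Band.res_spec D.fib (D.x.map (rhat k e)), Category.assoc, hα, pVal_natural]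
  · rw [pVal_smul]
    refine Eq.trans ?_ (hα T e)
    exact congrArg (fun β : Gerb.AutO (D.x.obj (elZ e)) => β⁻¹.hom.1 ≫ pVal p₂ T e)
      (GElt.at_mk _ (α T e) _)

theorem smul_right_injective {Z : Over B} {ξ : D.X.obj} {g g' : Z ⟶ GG D} {p : Z ⟶ PP D ξ}
    (h : smul g p = smul g' p) : g = g' :=
  gVal_ext fun T e => inv_injective (Band.autO_ext (hom_eq_of_comp_eq D.fib (pVal p T e)
    (by rw [(isVert_autO _).map_eq, (isVert_autO _).map_eq])
    (by rw [← pVal_smul, ← pVal_smul, h])))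

/-- The sheaf of morphisms is a pseudo-torsor. -/
theorem isPullback_secAct (ξ : D.X.obj) :
    IsPullback (secAct D ξ).act (snd (GG D) (PP D ξ)) (projO D ξ) (projO D ξ) := by
  have w : actMap ξ ≫ projO D ξ = snd (GG D) (PP D ξ) ≫ projO D ξ := by
    rw [actMap, smul_projO]
  refine IsPullback.of_isLimit' ⟨w⟩ (PullbackCone.IsLimit.mk _
    (fun s => lift (exists_smul_eq s.condition).choose s.snd) (fun s => ?_) (fun s => lift_snd _ _)
    (fun s m hm₁ hm₂ => ?_))
  · exact (lift_actMap _ _).trans (exists_smul_eq s.condition).choose_spec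
  · refine CartesianMonoidalCategory.hom_ext _ _ ?_ (hm₂.trans (lift_snd _ _).symm)
    rw [lift_fst]
    refine smul_right_injective (p := s.snd) ?_
    rw [(exists_smul_eq s.condition).choose_spec]
    refine Eq.trans ?_ hm₁
    show _ = m ≫ actMap ξ
    rw [actMap, smul_comp, ← hm₂]

theorem hasSecLoc_projO (hπ : Gerb.LocSurjHom (AlgSp.J S) D.π) (ξ : D.X.obj) :
    AlgSt.HasSecLoc Scheme.fppfPrecoverage (projO D ξ).left := by
  let U := D.X.p.obj ξ
  let a : (AlgSt.ofSp B).obj := el U (secOf D.π ξ)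
  have ha : D.X.p.obj (D.x.obj a) = U := D.x.w_obj a
  have hb : B.obj.map (eqToHom ((D.π.w_obj (D.x.obj a)).trans (ha.trans (D.π.w_obj ξ).symm))).op
      (D.π.obj ξ).sec = (D.π.obj (D.x.obj a)).sec := by
    have h := sec_x (D := D) a
    rw [secOf] at h
    have h' := congrArg (B.obj.map (eqToHom (D.π.w_obj (D.x.obj a))).op) h
    rw [map_op_comp, map_op_id B.obj _ (by simp), map_op_comp] at h'
    rw [h']
    show B.obj.map _ _ = B.obj.map _ (B.obj.map _ _)
    rw [map_op_comp]
    congr 2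
    simp
  let b : D.π.obj (D.x.obj a) ⟶ D.π.obj ξ := eltHom _ hb
  obtain ⟨R, hR, hR'⟩ := hπ (D.x.obj a) ξ b (IsVert.isHomLift
    (φ := b) ⟨(D.π.w_obj (D.x.obj a)).trans (ha.trans (D.π.w_obj ξ).symm), rfl⟩
    (D.π.w_obj _))
  refine QuotStk.hasSecLoc_of_secSieve_mem ((AlgSp.J S).superset_covering ?_
    ((AlgSp.J S).pullback_stable (eqToHom ha.symm) hR))
  intro V f hf
  obtain ⟨x₀, φ, ψ, hφ, hψ, hw⟩ := hR' (f ≫ eqToHom ha.symm) hf
  obtain ⟨hφ₁, hφ₂, eφ⟩ := (isHomLift_iff_eqToHom _ _).1 hφ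
  obtain ⟨hψ₁, hψ₂, eψ⟩ := (isHomLift_iff_eqToHom _ _).1 hψ
  let v : B.obj.obj (op V) := B.obj.map f.op (secOf D.π ξ)
  let hatf : el V v ⟶ a := hat f (secOf D.π ξ)
  obtain ⟨i, hi, -⟩ := exists_vert_iso_of_lifts D.fib (D.x.map hatf) φ ((D.x.w_obj _).trans hφ₁.symm)
    (by rw [map_map, eφ]; simp [hatf])
  let χ : D.x.obj (el V v) ⟶ ξ := i.hom ≫ ψ
  have hk : kOf χ = f := by
    simp only [χ, kOf, Functor.map_comp, hi.map_eq, eψ]
    simp
  refine ⟨yEquiv.symm (⟨v, χ⟩ : PElt D ξ V), yEquiv.injective ?_⟩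
  refine Eq.trans ((AlgSp.J S).uliftYonedaEquiv_comp _ _) ?_
  refine Eq.trans (congrArg _ (Equiv.apply_symm_apply _ _)) ?_
  refine ULift.ext _ _ (hk.trans ?_)
  exact (GrothendieckTopology.uliftYonedaEquiv_uliftYoneda_map (AlgSp.J S) f ▸ rfl)

end Proj

end

end Groth.StkGerb.Section
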